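import Cfsg.Agent.OddChar.Coherence.EqualDegree
import Cfsg.Agent.OddChar.Coherence.Irr
import Mathlib

/-!
# Gluing a pair to a coherent set in the borderline case of Peterfalvi (9.11)

`S₁` consists of irreducible characters of degree `D`, `T` of degree `d D`, with `2 d ≤ |S₁|`. A
virtual character `v₀` behaving like `τ (ψ - φ₁)`, of norm at most `|T|`, pins down the coefficient
left open by the norm inequality.
-/

set_option autoImplicit false
set_option linter.style.haveILetI false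
set_option linter.unusedSimpArgs false

namespace Cfsg.Agent.OddChar.TypeP.CoreCoherence

open Cfsg.Agent.Characters Cfsg.Agent.OddChar.Isometry Cfsg.Agent.OddChar.Coherence
open Cfsg.Agent.OddChar.Signed

universe u v

variable {L : Type u} [Group L] [Fintype L] {G : Type v} [Group G] [Fintype G]

theorem isGen_zsmul {θ : G → ℂ} (h : Cfsg.IsGeneralizedCharacter G θ) (n : ℤ) :
    Cfsg.IsGeneralizedCharacter G (n • θ) := by
  rw [← Int.cast_smul_eq_zsmul ℂ]; exact isGen_intSmul h n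

theorem int_le_one {A : ℤ} {m d : ℕ} (hm : 2 * d ≤ m) (hd : 1 < d)
    (h : (m : ℤ) * A ^ 2 - 2 * d * A ≤ 1) : A = 0 ∨ A = 1 := by
  have hm' : (2 * d : ℤ) ≤ m := by exact_mod_cast hm
  have hd' : (1 : ℤ) < d := by exact_mod_cast hd
  have hd0 : (0 : ℤ) ≤ d := by omega
  by_contra hcon
  push Not at hcon
  rcases lt_or_gt_of_ne hcon.1 with h0 | h0
  · have h1 : A ≤ -1 := by omega
    nlinarith [mul_nonneg (sub_nonneg.2 hm') (sq_nonneg A), mul_le_mul_of_nonneg_left h1 hd0,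
      mul_nonneg hd0 (sq_nonneg A)]
  · have h1 : 2 ≤ A := by omega
    have h2 : (2 : ℤ) ≤ A * (A - 1) := by nlinarith
    nlinarith [mul_nonneg (sub_nonneg.2 hm') (sq_nonneg A), mul_le_mul_of_nonneg_left h2 hd0]

set_option maxHeartbeats 1000000 in
/-- The borderline gluing. -/
theorem glue (τ : (L → ℂ) →ₗ[ℂ] (G → ℂ)) (S₁ T : Finset (L → ℂ))
    (hirr : ∀ φ ∈ (↑S₁ ∪ ↑T : Set (L → ℂ)), Cfsg.IsIrrCharacter L φ) (hdisj : Disjoint S₁ T)
    {D d : ℕ} (hd : 1 < d) (hdeg₁ : ∀ φ ∈ S₁, φ 1 = (D : ℂ))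
    (hdegT : ∀ χ ∈ T, χ 1 = (d : ℂ) * (D : ℂ)) (hcard : 2 * d ≤ S₁.card)
    (hτ : Cfsg.IsLinearIsometryOn (Cfsg.zspanOn (↑S₁ ∪ ↑T : Set (L → ℂ)) {1}ᶜ) τ)
    (hτ1 : ∀ α ∈ Cfsg.zspanOn (↑S₁ ∪ ↑T : Set (L → ℂ)) {1}ᶜ, τ α 1 = 0)
    (hone : ∀ α ∈ Cfsg.zspanOn (↑S₁ ∪ ↑T : Set (L → ℂ)) {1}ᶜ,
      Cfsg.classInner (τ α) (fun _ => 1) = 0)
    {φ₁ : L → ℂ} (hφ₁ : φ₁ ∈ S₁) {v₀ : G → ℂ} (hv₀ : Cfsg.IsGeneralizedCharacter G v₀)
    {N : ℕ} (hv₀n : (Cfsg.classInner v₀ v₀).re ≤ (N : ℝ) + 1)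
    (hv₀1 : Cfsg.classInner v₀ (fun _ => 1) = 1)
    (hv₀τ : ∀ α ∈ Cfsg.zspanOn (↑S₁ ∪ ↑T : Set (L → ℂ)) {1}ᶜ,
      Cfsg.classInner v₀ (τ α) = -Cfsg.classInner φ₁ α)
    (hN : N < T.card) {χ : L → ℂ} (hχ : χ ∈ T) (hχc : Cfsg.conjFun χ ∈ T)
    (hne : Cfsg.conjFun χ ≠ χ) :
    Cfsg.IsCoherent (↑S₁ ∪ {χ, Cfsg.conjFun χ} : Set (L → ℂ)) {1}ᶜ τ := by
  classical
  set U : Set (L → ℂ) := ↑S₁ ∪ ↑T with hU
  have hS₁U : ∀ φ ∈ S₁, φ ∈ U := fun φ h => Or.inl h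
  have hTU : ∀ φ ∈ T, φ ∈ U := fun φ h => Or.inr h
  have hn : ∀ φ ∈ U, ∀ ψ ∈ U, Cfsg.classInner φ ψ = if φ = ψ then 1 else 0 := fun φ hφ ψ hψ =>
    irr_orth hirr hφ hψ
  have hnT : ∀ ξ ∈ T, ∀ φ ∈ S₁, Cfsg.classInner ξ φ = 0 := fun ξ hξ φ hφ => by
    rw [hn ξ (hTU ξ hξ) φ (hS₁U φ hφ), if_neg]
    rintro rfl
    exact Finset.disjoint_left.1 hdisj hφ hξ
  have h2 : 2 ≤ S₁.card := by omega
  have hsub : Cfsg.zspanOn (↑S₁ : Set (L → ℂ)) {1}ᶜ ⊆ Cfsg.zspanOn U {1}ᶜ :=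
    zspanOn_mono _ Set.subset_union_left
  obtain ⟨-, σ, hσ, hστ⟩ := coherent_irr_equal_degree (τ := ⇑τ) S₁ (fun φ h => hirr φ (hS₁U φ h))
    (fun φ h ψ h' => by rw [hdeg₁ φ h, hdeg₁ ψ h']) h2
    ⟨fun a ha b hb => hτ.1 a (hsub ha) b (hsub hb), fun a ha => hτ.2.1 a (hsub ha),
      fun a ha b hb => hτ.2.2.1 a (hsub ha) b (hsub hb), fun a ha => hτ.2.2.2 a (hsub ha)⟩
    fun a ha => hτ1 a (hsub ha)
  have hegen : ∀ φ ∈ S₁, Cfsg.IsGeneralizedCharacter G (σ φ) := fun φ h => hσ.2.2.2 φ (mem_zS h)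
  have he : ∀ φ ∈ S₁, ∀ ψ ∈ S₁, Cfsg.classInner (σ φ) (σ ψ) = if φ = ψ then 1 else 0 :=
    fun φ h ψ h' => by rw [hσ.2.2.1 φ (mem_zS h) ψ (mem_zS h'), hn φ (hS₁U φ h) ψ (hS₁U ψ h')]
  have hdiff : ∀ φ ∈ S₁, φ - φ₁ ∈ Cfsg.zspanOn U {1}ᶜ := fun φ h =>
    mem_zspanOn_compl_one (Submodule.sub_mem _ (mem_zS (hS₁U φ h)) (mem_zS (hS₁U _ hφ₁)))
      (by rw [Pi.sub_apply, hdeg₁ φ h, hdeg₁ φ₁ hφ₁, sub_self])
  have hτdiff : ∀ φ ∈ S₁, τ (φ - φ₁) = σ φ - σ φ₁ := fun φ h => by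
    rw [← hστ _ (mem_zspanOn_compl_one (Submodule.sub_mem _ (mem_zS h) (mem_zS hφ₁))
      (by rw [Pi.sub_apply, hdeg₁ φ h, hdeg₁ φ₁ hφ₁, sub_self]))]
    exact map_sub' (M := zS (↑S₁ : Set (L → ℂ))) hσ (mem_zS h) (mem_zS hφ₁)
  -- the principal character is orthogonal to the images
  have he1 : ∀ φ ∈ S₁, Cfsg.classInner (σ φ) (fun _ => 1) = 0 := by
    obtain ⟨z, hz⟩ := classInner_gen_int (hegen φ₁ hφ₁) (isGen_of_isCharacter (isCharacter_one (G := G)))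
    have hall : ∀ φ ∈ S₁, Cfsg.classInner (σ φ) (fun _ => 1) = (z : ℂ) := fun φ h => by
      have h0 := hone _ (hdiff φ h)
      rwa [hτdiff φ h, classInner_sub_left, hz, sub_eq_zero] at h0
    have hb := bessel (s := S₁) (f := σ) (n := fun _ => 1) (v := fun _ : G => (1 : ℂ))
      (u := fun _ => z) (fun _ _ => one_pos)
      (fun φ h ψ h' => by rw [he φ h ψ h', Nat.cast_one]) fun φ h => inner_comm_int (hall φ h)
    simp only [Finset.sum_const, nsmul_eq_mul, Nat.cast_one, div_one] at hb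
    have h11 : Cfsg.classInner (fun _ : G => (1 : ℂ)) (fun _ : G => (1 : ℂ)) = 1 :=
      classInner_isIrr_self isIrrCharacter_one
    rw [h11, Complex.one_re] at hb
    have hz0 : z = 0 := by
      by_contra hz0
      have h3 : (1 : ℝ) ≤ (z : ℝ) ^ 2 := by
        exact_mod_cast Int.add_one_le_iff.2 (sq_pos_of_ne_zero hz0)
      have h4 : (2 : ℝ) ≤ S₁.card := by exact_mod_cast h2
      nlinarith
    exact fun φ h => by rw [hall φ h, hz0, Int.cast_zero]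
  -- the differences attached to `T`
  set α : (L → ℂ) → (L → ℂ) := fun ξ => ξ - (d : ℤ) • φ₁ with hα
  have hαmem : ∀ ξ ∈ T, α ξ ∈ Cfsg.zspanOn U {1}ᶜ := fun ξ h =>
    mem_zspanOn_compl_one (Submodule.sub_mem _ (mem_zS (hTU ξ h))
      (Submodule.smul_mem _ _ (mem_zS (hS₁U _ hφ₁))))
      (by simp [hα, hdegT ξ h, hdeg₁ φ₁ hφ₁])
  have hαe : ∀ ξ ∈ T, ∀ φ ∈ S₁, Cfsg.classInner (τ (α ξ)) (σ φ) =
      Cfsg.classInner (τ (α ξ)) (σ φ₁) + (if φ = φ₁ then 0 else (d : ℂ)) := fun ξ h φ hφ => by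
    have h0 : Cfsg.classInner (τ (α ξ)) (τ (φ - φ₁)) = Cfsg.classInner (α ξ) (φ - φ₁) :=
      hτ.2.2.1 _ (hαmem ξ h) _ (hdiff φ hφ)
    rw [hτdiff φ hφ, classInner_sub_right, sub_eq_iff_eq_add] at h0
    rw [h0, add_comm]
    congr 1
    simp only [hα, classInner_sub_left, classInner_sub_right, inner_smul_int_left, hnT ξ h φ hφ,
      hnT ξ h φ₁ hφ₁, hn φ₁ (hS₁U _ hφ₁) φ (hS₁U _ hφ), hn φ₁ (hS₁U _ hφ₁) φ₁ (hS₁U _ hφ₁), if_pos rfl]
    by_cases hff : φ = φ₁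
    · rw [if_pos hff, if_pos hff.symm]; push_cast; ring
    · rw [if_neg hff, if_neg (Ne.symm hff)]; push_cast; ring
  choose! z hz using fun ξ (h : ξ ∈ T) =>
    classInner_gen_int (hτ.2.2.2 _ (hαmem ξ h)) (hegen φ₁ hφ₁)
  set A : (L → ℂ) → ℤ := fun ξ => z ξ + d with hA
  set c : (L → ℂ) → (L → ℂ) → ℤ := fun ξ φ => A ξ - if φ = φ₁ then (d : ℤ) else 0 with hc
  have hve : ∀ ξ ∈ T, ∀ φ ∈ S₁, Cfsg.classInner (τ (α ξ)) (σ φ) = (c ξ φ : ℂ) := fun ξ h φ hφ => by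
    rw [hαe ξ h φ hφ, hz ξ h]
    simp only [hc, hA]
    split_ifs <;> push_cast <;> ring
  set X : (L → ℂ) → (G → ℂ) := fun ξ => τ (α ξ) - ∑ φ ∈ S₁, c ξ φ • σ φ with hX
  have hXd : ∀ ξ, X ξ = τ (α ξ) - ∑ φ ∈ S₁, c ξ φ • σ φ := fun _ => rfl
  have hXe : ∀ ξ ∈ T, ∀ φ ∈ S₁, Cfsg.classInner (X ξ) (σ φ) = 0 := fun ξ h φ hφ => by
    rw [hX, classInner_sub_left, classInner_sum_left, Finset.sum_eq_single φ, inner_smul_int_left,
      he φ hφ φ hφ, if_pos rfl, mul_one, hve ξ h φ hφ, sub_self]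
    · intro ψ hψ hne'
      rw [inner_smul_int_left, he ψ hψ φ hφ, if_neg hne', mul_zero]
    · exact fun h' => absurd hφ h'
  set m : ℤ := (S₁.card : ℤ) with hm
  have hcc : ∀ ξ η : L → ℂ, ∑ φ ∈ S₁, c ξ φ * c η φ = m * A ξ * A η - d * A ξ - d * A η + d * d := by
    intro ξ η
    have : ∀ φ : L → ℂ, c ξ φ * c η φ = A ξ * A η +
        (if φ = φ₁ then (-(d : ℤ) * A ξ - d * A η + d * d) else 0) := fun φ => by
      simp only [hc]; split_ifs <;> ring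
    rw [Finset.sum_congr rfl fun φ _ => this φ, Finset.sum_add_distrib, Finset.sum_ite_eq',
      if_pos hφ₁, Finset.sum_const, nsmul_eq_mul, hm]
    ring
  have hXX : ∀ ξ ∈ T, ∀ η ∈ T, Cfsg.classInner (X ξ) (X η) =
      (((if ξ = η then 1 else 0) - (m * A ξ * A η - d * A ξ - d * A η) : ℤ) : ℂ) := by
    intro ξ hξ η hη
    rw [hXd η, classInner_sub_right, classInner_sum_right,
      Finset.sum_eq_zero (fun φ hφ => by rw [inner_smul_int_right, hXe ξ hξ φ hφ, mul_zero]), sub_zero]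
    rw [hXd ξ, classInner_sub_left, classInner_sum_left, hτ.2.2.1 _ (hαmem ξ hξ) _ (hαmem η hη),
      Finset.sum_congr rfl (fun φ hφ => by
        rw [inner_smul_int_left, inner_comm_int (hve η hη φ hφ), ← Int.cast_mul]), ← Int.cast_sum, hcc]
    simp only [hα, classInner_sub_left, classInner_sub_right, inner_smul_int_left,
      inner_smul_int_right, hn ξ (hTU _ hξ) η (hTU _ hη), hnT ξ hξ φ₁ hφ₁,
      inner_comm_zero (hnT η hη φ₁ hφ₁), hn φ₁ (hS₁U _ hφ₁) φ₁ (hS₁U _ hφ₁), if_pos rfl]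
    by_cases h : ξ = η
    · rw [if_pos h, if_pos h]; push_cast; ring
    · rw [if_neg h, if_neg h]; push_cast; ring
  have hA01 : ∀ ξ ∈ T, A ξ = 0 ∨ A ξ = 1 := fun ξ h => by
    have h0 := self_re_nonneg (X ξ)
    rw [hXX ξ h ξ h, if_pos rfl, Complex.intCast_re, Int.cast_nonneg_iff] at h0
    refine int_le_one hcard hd ?_
    rw [hm] at h0
    linarith
  -- no difference has coefficient one
  have hA0 : ∀ ξ ∈ T, A ξ = 0 := by
    by_contra hcon
    push Not at hcon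
    obtain ⟨ξ₀, hξ₀, hne0⟩ := hcon
    have h1 : A ξ₀ = 1 := (hA01 ξ₀ hξ₀).resolve_left hne0
    have hm2 : (2 * d : ℤ) ≤ m := by rw [hm]; exact_mod_cast hcard
    have hd' : (1 : ℤ) < d := by exact_mod_cast hd
    have hn0 := self_re_nonneg (X ξ₀)
    rw [hXX ξ₀ hξ₀ ξ₀ hξ₀, if_pos rfl, Complex.intCast_re, Int.cast_nonneg_iff, h1] at hn0
    have hall : ∀ η ∈ T, A η = 1 := by
      intro η hη
      refine (hA01 η hη).resolve_left fun h0 => ?_
      have hne1 : ξ₀ ≠ η := fun e => by rw [e, h0] at h1; exact zero_ne_one h1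
      have hpos := self_re_nonneg (X ξ₀ - X η)
      simp only [classInner_sub_left, classInner_sub_right, hXX ξ₀ hξ₀ ξ₀ hξ₀, hXX ξ₀ hξ₀ η hη,
        hXX η hη ξ₀ hξ₀, hXX η hη η hη, h1, h0, if_pos rfl, if_neg hne1, if_neg (Ne.symm hne1)] at hpos
      rw [← Int.cast_sub, ← Int.cast_sub, ← Int.cast_sub, Complex.intCast_re, Int.cast_nonneg_iff]
        at hpos
      simp only [if_true, mul_zero, mul_one, zero_mul, sub_zero] at hpos
      linarith
    have hmd : m = 2 * d := by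
      obtain ⟨η, hη, hηne⟩ : ∃ η ∈ T, η ≠ ξ₀ := by
        by_cases h : χ = ξ₀
        · exact ⟨_, hχc, fun e => hne (e.trans h.symm)⟩
        · exact ⟨χ, hχ, h⟩
      by_contra hne2
      have hval : (1 : ℤ) - (m * 1 * 1 - d * 1 - d * 1) = 0 := by omega
      have hz0 : X ξ₀ = 0 := classInner_self_eq_zero.1 (by
        rw [hXX ξ₀ hξ₀ ξ₀ hξ₀, if_pos rfl, h1, hval, Int.cast_zero])
      have h' := hXX ξ₀ hξ₀ η hη
      rw [hz0, classInner_zero_left, if_neg (Ne.symm hηne), h1, hall η hη, eq_comm,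
        Int.cast_eq_zero] at h'
      omega
    -- Bessel against the virtual character `v₀`
    obtain ⟨w, hw⟩ := classInner_gen_int hv₀ (hegen φ₁ hφ₁)
    set A' : ℤ := w + 1 with hA'
    have hv₀e : ∀ φ ∈ S₁, Cfsg.classInner v₀ (σ φ) = ((A' - if φ = φ₁ then 1 else 0 : ℤ) : ℂ) := by
      intro φ hφ
      have h0 := hv₀τ _ (hdiff φ hφ)
      rw [hτdiff φ hφ, classInner_sub_right, classInner_sub_right, hw,
        hn φ₁ (hS₁U _ hφ₁) φ (hS₁U _ hφ), hn φ₁ (hS₁U _ hφ₁) φ₁ (hS₁U _ hφ₁), if_pos rfl,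
        sub_eq_iff_eq_add] at h0
      rw [h0, hA']
      by_cases hff : φ = φ₁
      · rw [if_pos hff, if_pos hff.symm]; push_cast; ring
      · rw [if_neg hff, if_neg (Ne.symm hff)]; push_cast; ring
    have hv₀X : ∀ ξ ∈ T, Cfsg.classInner v₀ (X ξ) = ((1 - d * A' : ℤ) : ℂ) := by
      intro ξ hξ
      rw [hX, classInner_sub_right, classInner_sum_right, hv₀τ _ (hαmem ξ hξ),
        Finset.sum_congr rfl (fun φ hφ => by
          rw [inner_smul_int_right, hv₀e φ hφ, ← Int.cast_mul])]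
      simp only [hα, classInner_sub_right, inner_smul_int_right, inner_comm_zero (hnT ξ hξ φ₁ hφ₁),
        hn φ₁ (hS₁U _ hφ₁) φ₁ (hS₁U _ hφ₁), if_pos rfl]
      have hsum : ∑ φ ∈ S₁, c ξ φ * (A' - if φ = φ₁ then 1 else 0) = m * A' - d * A' - 1 + d := by
        have : ∀ φ : L → ℂ, c ξ φ * (A' - if φ = φ₁ then 1 else 0) = A' +
            (if φ = φ₁ then (-(d : ℤ) * A' - 1 + d) else 0) := fun φ => by
          simp only [hc, hall ξ hξ]; split_ifs <;> ring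
        rw [Finset.sum_congr rfl fun φ _ => this φ, Finset.sum_add_distrib, Finset.sum_ite_eq',
          if_pos hφ₁, Finset.sum_const, nsmul_eq_mul, hm]
        ring
      rw [← Int.cast_sum, hsum, hmd]
      push_cast
      ring
    have hB : (1 - d * A' : ℤ) ≠ 0 := fun h0 => by
      have : (d : ℤ) ∣ 1 := ⟨A', by linarith⟩
      have := Int.le_of_dvd one_pos this
      omega
    let f : Option (L → ℂ) → G → ℂ := fun o => o.elim (fun _ => 1) X
    let uu : Option (L → ℂ) → ℤ := fun o => o.elim 1 fun _ => 1 - d * A'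
    have hX1 : ∀ ξ ∈ T, Cfsg.classInner (X ξ) (fun _ => 1) = 0 := fun ξ hξ => by
      rw [hX, classInner_sub_left, classInner_sum_left, hone _ (hαmem ξ hξ),
        Finset.sum_eq_zero (fun φ hφ => by rw [inner_smul_int_left, he1 φ hφ, mul_zero]), sub_zero]
    have hb := bessel (s := insert none (T.image some)) (f := f) (n := fun _ => 1) (v := v₀) (u := uu)
      (fun _ _ => one_pos) (by
        intro i hi j hj
        simp only [Finset.mem_insert, Finset.mem_image] at hi hj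
        rcases hi with rfl | ⟨ξ, hξ, rfl⟩ <;> rcases hj with rfl | ⟨η, hη, rfl⟩
        · simp only [f, Option.elim_none, if_pos, Nat.cast_one]
          exact classInner_isIrr_self isIrrCharacter_one
        · simp [f, inner_comm_zero (hX1 η hη)]
        · simp [f, hX1 ξ hξ]
        · simp only [f, Option.elim_some, hXX ξ hξ η hη, hall ξ hξ, hall η hη, hmd, Option.some.injEq]
          split_ifs <;> push_cast <;> ring)
      (by
        intro i hi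
        simp only [Finset.mem_insert, Finset.mem_image] at hi
        rcases hi with rfl | ⟨ξ, hξ, rfl⟩
        · simp [f, uu, hv₀1]
        · simpa [f, uu] using hv₀X ξ hξ)
    rw [Finset.sum_insert (by simp), Finset.sum_image (fun a _ b _ h => Option.some_injective _ h)]
      at hb
    simp only [uu, Option.elim_none, Option.elim_some, Nat.cast_one, div_one, Finset.sum_const,
      nsmul_eq_mul, Int.cast_one, one_pow] at hb
    have h3 : (1 : ℝ) ≤ ((1 - d * A' : ℤ) : ℝ) ^ 2 := by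
      exact_mod_cast Int.add_one_le_iff.2 (sq_pos_of_ne_zero hB)
    have h4 : (N : ℝ) + 1 ≤ T.card := by exact_mod_cast hN
    nlinarith [mul_le_mul_of_nonneg_left h3 (Nat.cast_nonneg (α := ℝ) T.card)]
  -- the glued extension
  have hXval : ∀ ξ ∈ T, X ξ = τ (α ξ) + (d : ℤ) • σ φ₁ := fun ξ hξ => by
    simp only [hX, hc, hA0 ξ hξ, zero_sub, neg_smul, Finset.sum_neg_distrib, sub_neg_eq_add, ite_smul,
      zero_smul, Finset.sum_ite_eq', if_pos hφ₁]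
  set Y : Finset (L → ℂ) := {χ, Cfsg.conjFun χ} with hY
  have hYT : ∀ ξ ∈ Y, ξ ∈ T := by simp [hY, hχ, hχc]
  have horthY : ∀ a ∈ Y, ∀ b ∈ Y, a ≠ b → Cfsg.classInner a b = 0 := fun a ha b hb h => by
    rw [hn a (hTU _ (hYT a ha)) b (hTU _ (hYT b hb)), if_neg h]
  have hneY : ∀ a ∈ Y, Cfsg.classInner a a ≠ 0 := fun a ha => by
    rw [hn a (hTU _ (hYT a ha)) a (hTU _ (hYT a ha)), if_pos rfl]; exact one_ne_zero
  have hYiso := extend_isometry (f := X) horthY hneY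
    (fun a ha b hb => by
      rw [hXX a (hYT a ha) b (hYT b hb), hA0 a (hYT a ha), hA0 b (hYT b hb),
        hn a (hTU _ (hYT a ha)) b (hTU _ (hYT b hb))]
      simp)
    fun a ha => by
      rw [hXval a (hYT a ha)]
      exact isGen_add (hτ.2.2.2 _ (hαmem a (hYT a ha))) (isGen_zsmul (hegen φ₁ hφ₁) _)
  have hYset : (↑Y : Set (L → ℂ)) = {χ, Cfsg.conjFun χ} := by simp [hY]
  rw [hYset] at hYiso
  refine coherent_union (S := U) hirr Set.subset_union_left ?_ ?_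
    ?_ ⟨χ, Or.inl rfl, Cfsg.conjFun χ, Or.inr rfl, hne.symm⟩ hτ hτ1 hσ hστ hYiso ?_
    (χ₀ := φ₁) hφ₁ (η₀ := χ) (Or.inl rfl) ?_
  · rintro ξ (rfl | rfl)
    exacts [Or.inr hχ, Or.inr hχc]
  · rw [Set.disjoint_left]
    rintro ξ hξ (rfl | rfl)
    exacts [Finset.disjoint_left.1 hdisj hξ hχ, Finset.disjoint_left.1 hdisj hξ hχc]
  · obtain ⟨b, hb, hbne⟩ := S₁.exists_mem_ne h2 φ₁
    exact ⟨φ₁, hφ₁, b, hb, hbne.symm⟩
  · intro θ hθ
    obtain ⟨p, r, rfl⟩ := Submodule.mem_span_pair.1 hθ.1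
    have h1 := hθ.2 1 (by simp)
    simp only [Pi.add_apply, zsmul_eq_mul, Pi.mul_apply, Pi.intCast_apply, hdegT χ hχ, hdegT _ hχc] at h1
    have hDpos : (D : ℂ) ≠ 0 := fun h => irr_one_ne_zero (hirr φ₁ (hS₁U _ hφ₁)) (by rw [hdeg₁ φ₁ hφ₁, h])
    have hpr : (r : ℂ) = -(p : ℂ) := by
      have hdD : ((d : ℂ) * D) ≠ 0 := mul_ne_zero (Nat.cast_ne_zero.2 (by omega)) hDpos
      have : ((p : ℂ) + r) * ((d : ℂ) * D) = 0 := by rw [add_mul]; exact h1
      linear_combination (mul_eq_zero.1 this).resolve_right hdD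
    have hr : r = -p := by exact_mod_cast hpr
    subst hr
    rw [neg_smul, ← sub_eq_add_neg, ← smul_sub, map_zsmul, map_zsmul, map_sub,
      extend_apply horthY hneY (by simp [hY]), extend_apply horthY hneY (by simp [hY]), hXval χ hχ,
      hXval _ hχc, add_sub_add_right_eq_sub, ← map_sub]
    congr 2
    simp only [hα]
    abel
  · rw [extend_apply horthY hneY (by simp [hY]), hXval χ hχ]
    simp only [hα, map_sub, map_zsmul, map_smul, hdeg₁ φ₁ hφ₁, hdegT χ hχ, ← Int.cast_smul_eq_zsmul ℂ]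
    push_cast
    module

end Cfsg.Agent.OddChar.TypeP.CoreCoherence
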