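import Cfsg.Agent.OddChar.TypeP.CoreCoherence.Split
import Cfsg.Agent.OddChar.TypeP.CoreCoherence.Glue
import Cfsg.Agent.OddChar.Coherence.Above
import Cfsg.Agent.Lib.Coprime.Action
import Mathlib

/-!
# Coherence of `S(H₀ C')` in the abstract configuration
-/

set_option autoImplicit false
set_option linter.style.haveILetI false
set_option linter.unusedSectionVars false

namespace Cfsg.Agent.OddChar.TypeP.CoreCoherence

open Cfsg.Agent.Characters Cfsg.Agent.OddChar.Isometry Cfsg.Agent.OddChar.Coherence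
open scoped ComplexConjugate

universe u v

variable {L : Type u} [Group L]

namespace Sect

variable {K H H0 U C W : Subgroup L} {r q : ℕ}

/-- When `U/C` acts without fixed points on `H/H₀`, only `C` fixes a nontrivial character. -/
theorem fix_mem_C [Finite L] (D : Sect K H H0 U C W r q)
    (hfree : ∀ u ∈ U, u ∉ C → ∀ h ∈ H, u * h * u⁻¹ * h⁻¹ ∈ H0 → h ∈ H0) (χ : DualOn H H0)
    (hne : ∃ y ∈ H, ev χ.1 y ≠ 1) {u : L} (hu : u ∈ U)
    (hfix : ∀ y ∈ H, ev χ.1 (u⁻¹ * y * u) = ev χ.1 y) : u ∈ C := by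
  by_contra huC
  haveI := D.H0n
  obtain ⟨y₀, hy₀, hne⟩ := hne
  set Z := H0.subgroupOf H
  have hcomm : ∀ a b : H ⧸ Z, a * b = b * a := by
    intro a b
    induction a using QuotientGroup.induction_on with | _ a => ?_
    induction b using QuotientGroup.induction_on with | _ b => ?_
    show ((a * b : H) : H ⧸ Z) = ((b * a : H) : H ⧸ Z)
    rw [QuotientGroup.eq, Subgroup.mem_subgroupOf]
    simpa [mul_assoc] using D.abel _ (H.inv_mem b.2) _ (H.inv_mem a.2)
  letI : CommGroup (H ⧸ Z) := { (inferInstance : Group (H ⧸ Z)) with mul_comm := hcomm }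
  let g : H →* H ⧸ Z :=
    { toFun := fun y => QuotientGroup.mk (⟨u⁻¹ * y * u, D.conjH' u y.2⟩ * y⁻¹ : H)
      map_one' := by rw [inv_one, mul_one]; exact (QuotientGroup.eq_one_iff _).2 (by simp [Z, Subgroup.mem_subgroupOf])
      map_mul' := fun y z => by
        rw [show (⟨u⁻¹ * (y * z : H) * u, D.conjH' u (y * z).2⟩ : H) =
          ⟨u⁻¹ * y * u, D.conjH' u y.2⟩ * ⟨u⁻¹ * z * u, D.conjH' u z.2⟩ from
            Subtype.ext (by simp [mul_assoc])]
        simp only [QuotientGroup.mk_mul, QuotientGroup.mk_inv, mul_inv]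
        exact mul_mul_mul_comm _ _ _ _ }
  have hker : g.ker = Z := by
    ext y
    show (QuotientGroup.mk _ : H ⧸ Z) = 1 ↔ _
    rw [QuotientGroup.eq_one_iff, Subgroup.mem_subgroupOf, Subgroup.mem_subgroupOf]
    refine ⟨fun h => hfree u⁻¹ (U.inv_mem hu) (fun h' => huC (by simpa using C.inv_mem h')) y y.2
      (by simpa using h), fun h => ?_⟩
    simpa using H0.mul_mem (D.conjH0' u h) (H0.inv_mem h)
  have htop : g.range = ⊤ := Subgroup.eq_top_of_card_eq _ (by
    rw [← Subgroup.index_ker, hker]; rfl)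
  obtain ⟨y, hy⟩ := MonoidHom.range_eq_top.1 htop (QuotientGroup.mk (⟨y₀, hy₀⟩ : H))
  have h1 := Subgroup.mem_subgroupOf.1 (QuotientGroup.eq.1 hy)
  have hmem : u⁻¹ * (y : L) * u * (y : L)⁻¹ ∈ H := H.mul_mem (D.conjH' u y.2) (H.inv_mem y.2)
  have h2 : ev χ.1 ((u⁻¹ * (y : L) * u * (y : L)⁻¹)⁻¹ * y₀) = 1 := ev_dual χ (by simpa using h1)
  rw [ev_mul _ (H.inv_mem hmem) hy₀, ev_inv _ hmem, ev_mul _ (D.conjH' u y.2) (H.inv_mem y.2),
    ev_inv _ y.2, hfix _ y.2, mul_inv_cancel, inv_one, one_mul] at h2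
  exact hne h2

/-- The Galois case: coherence. -/
theorem coherent_galois [Fintype L] {G : Type v} [Group G] [Fintype G] (D : Sect K H H0 U C W r q)
    (hfree : ∀ u ∈ U, u ∉ C → ∀ h ∈ H, u * h * u⁻¹ * h⁻¹ ∈ H0 → h ∈ H0)
    {τ : (L → ℂ) → (G → ℂ)} {R : (L → ℂ) → Finset (G → ℂ)}
    (hS : Cfsg.IsCoherenceSystem (secS K H H0 C) τ R) :
    Cfsg.IsCoherent (secS K H H0 C) {1}ᶜ τ := by
  refine coherent_of_equal_degree hS fun φ hφ ψ hψ => ?_
  have key : ∀ φ ∈ secS K H H0 C, φ 1 = ((q * C.relIndex U : ℕ) : ℂ) := by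
    intro φ hφ
    obtain ⟨m, hm, hm0, hmu, hdvd⟩ := D.degree_spec (a := C.relIndex U)
      (fun χ hne => ⟨H ⊔ C, le_rfl, D.sup_le_K D.CU, by rw [D.relIndex_sup D.CU],
        fun u hu hfix => Subgroup.mem_sup_right (D.fix_mem_C hfree χ hne hu hfix)⟩) hφ
    rw [hm, le_antisymm hmu (Nat.le_of_dvd hm0 hdvd)]
  rw [key φ hφ, key ψ hψ]

end Sect

namespace Split

variable {K H H0 U C W H1 C1 : Subgroup L} {r q a : ℕ}

/-- A nontrivial element of `H C₁` commutes with a nontrivial element of `H`. -/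
theorem exists_comm [Finite L] (S : Split K H H0 U C W H1 C1 r q a) {g : L} (hg : g ∈ H ⊔ C1)
    (hg1 : g ≠ 1) : ∃ y ∈ H, y ≠ 1 ∧ g * y = y * g := by
  classical
  have D := S.sect
  by_cases hc : (orderOf g).Coprime (Nat.card H)
  · have hA : Subgroup.zpowers g ≤ H ⊔ C1 := Subgroup.zpowers_le.2 hg
    have hlt : ¬ H1 ≤ H0 := fun h => by
      have := Subgroup.relIndex_eq_one.2 h
      rw [S.line_card] at this
      exact D.rp.one_lt.ne' this
    obtain ⟨k, hk, hk0⟩ := SetLike.not_le_iff_exists.1 hlt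
    haveI := D.H0n
    have hact : ∀ x ∈ H ⊔ C1, x * k * x⁻¹ * k⁻¹ ∈ H0 := by
      intro x hx
      obtain ⟨h, hh, c, hc', rfl⟩ := D.mem_sup.1 hx
      have h1 : c * k * c⁻¹ * k⁻¹ ∈ H0 := (S.cent1 c (S.C1U hc')).1 hc' k hk
      have h2 := D.abel h hh _ (D.conjH c (S.le hk))
      simpa [mul_assoc] using H0.mul_mem h2 h1
    obtain ⟨c, ⟨hcH, hcA⟩, hkc⟩ := Cfsg.Agent.Coprime.exists_fixed_mod (A := Subgroup.zpowers g)
      (K := H) (N := H0) (by rwa [Nat.card_zpowers])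
      (Or.inl (Group.isSolvable_of_comm fun x y => by
        obtain ⟨i, hi⟩ := Subgroup.mem_zpowers_iff.1 x.2
        obtain ⟨j, hj⟩ := Subgroup.mem_zpowers_iff.1 y.2
        refine Subtype.ext ?_
        rw [Subgroup.coe_mul, Subgroup.coe_mul, ← hi, ← hj, ← zpow_add, ← zpow_add, add_comm]))
      D.H0H Subgroup.le_normalizer_of_normal Subgroup.le_normalizer_of_normal
      (S.le hk) (fun x hx => hact x (hA hx))
    refine ⟨c, hcH, fun e => hk0 ?_, Subgroup.mem_centralizer_iff.1 hcA g (Subgroup.mem_zpowers g)⟩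
    rw [e, mul_one] at hkc
    simpa using H0.inv_mem hkc
  · obtain ⟨p, hp, hpo, hpH⟩ := Nat.Prime.not_coprime_iff_dvd.1 hc
    obtain ⟨k, hk⟩ := hpo
    set y := g ^ k
    have hyo : orderOf y = p := by
      have hpos := orderOf_pos g
      rw [orderOf_pow_of_dvd (fun e => by simp [hk, e] at hpos) (hk ▸ dvd_mul_left k p), hk,
        Nat.mul_div_cancel _ (Nat.pos_of_ne_zero fun e => by simp [hk, e] at hpos)]
    have hy1 : y ≠ 1 := fun e => hp.ne_one (by rw [← hyo, e, orderOf_one])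
    obtain ⟨h, hh, c, hc', e⟩ := D.mem_sup.1 (pow_mem hg k : y ∈ H ⊔ C1)
    haveI := D.Hn
    replace e : y = h * c := e
    have hc1 : c = 1 := by
      have h1 : (QuotientGroup.mk' H c) ^ p = 1 := by
        have h2 : QuotientGroup.mk' H y = QuotientGroup.mk' H c := by
          rw [e, map_mul, show QuotientGroup.mk' H h = 1 from (QuotientGroup.eq_one_iff _).2 hh, one_mul]
        rw [← h2, ← map_pow, ← hyo, pow_orderOf_eq_one, map_one]
      rw [← map_pow] at h1
      have h2 : c ^ p ∈ H ⊓ U := ⟨(QuotientGroup.eq_one_iff _).1 h1, U.pow_mem (S.C1U hc') p⟩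
      rw [D.HU, Subgroup.mem_bot] at h2
      have h3 := Nat.dvd_gcd (orderOf_dvd_of_pow_eq_one h2) (U.orderOf_dvd_natCard (S.C1U hc'))
      rw [(D.cop.coprime_dvd_left hpH).gcd_eq_one, Nat.dvd_one, orderOf_eq_one_iff] at h3
      exact h3
    refine ⟨y, by rw [e, hc1, mul_one]; exact hh, hy1, ?_⟩
    exact (Commute.self_pow g k).eq

variable [Fintype L] {G : Type v} [Group G] [Fintype G]

theorem degree (S : Split K H H0 U C W H1 C1 r q a) {φ : L → ℂ} (hφ : φ ∈ secS K H H0 C) :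
    ∃ m : ℕ, φ 1 = ((q * m : ℕ) : ℂ) ∧ 0 < m ∧ m ≤ C.relIndex U ∧ a ∣ m :=
  S.sect.degree_spec S.exists_T hφ

set_option maxHeartbeats 1000000 in
/-- The split case: coherence. -/
theorem coherent_split (S : Split K H H0 U C W H1 C1 r q a) (τ : (L → ℂ) →ₗ[ℂ] (G → ℂ))
    {R : (L → ℂ) → Finset (G → ℂ)} (hS : Cfsg.IsCoherenceSystem (secS K H H0 C) τ R)
    (A : Set L) (hA : ∀ g : L, g ≠ 1 → ∀ x : L, x⁻¹ * g * x ∈ H ⊔ C1 → g ∈ A)
    (hiso : ∀ α β : L → ℂ, Cfsg.IsClassFunction L α → (∀ g, g ∉ A → α g = 0) →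
      Cfsg.IsClassFunction L β → (∀ g, g ∉ A → β g = 0) →
      Cfsg.classInner (τ α) (τ β) = Cfsg.classInner α β)
    (hone : ∀ α : L → ℂ, Cfsg.IsClassFunction L α → (∀ g, g ∉ A → α g = 0) →
      Cfsg.classInner (τ α) (fun _ => 1) = Cfsg.classInner α (fun _ => 1))
    (hgen : ∀ α : L → ℂ, Cfsg.IsGeneralizedCharacter L α → (∀ g, g ∉ A → α g = 0) →
      Cfsg.IsGeneralizedCharacter G (τ α)) :
    Cfsg.IsCoherent (secS K H H0 C) {1}ᶜ τ := by
  classical
  have D := S.sect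
  haveI := D.Hn
  rcases Nat.lt_or_ge a (C.relIndex U) with hu | hu
  swap
  · refine coherent_of_equal_degree hS fun φ hφ ψ hψ => ?_
    obtain ⟨m, hm, hm0, hmu, hdvd⟩ := S.degree hφ
    obtain ⟨m', hm', hm0', hmu', hdvd'⟩ := S.degree hψ
    have := Nat.le_of_dvd hm0 hdvd
    have := Nat.le_of_dvd hm0' hdvd'
    rw [hm, hm', show m = m' by omega]
  obtain ⟨S1, T, n, hS1, hT, hcard, hnT, hn, hc1⟩ := S.families hu
  have hqa : 0 < q * a := Nat.mul_pos D.qp.pos (by have := S.one_lt; omega)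
  set U' : Set (L → ℂ) := ↑S1 ∪ ↑T with hU'
  have hsub : U' ⊆ secS K H H0 C := by
    rintro φ (h | h)
    · exact (hS1 φ h).2.2.1
    · exact (hT φ h).2.2.1
  have hirr : ∀ φ ∈ U', Cfsg.IsIrrCharacter L φ := by
    rintro φ (h | h)
    · exact (hS1 φ h).1
    · exact (hT φ h).1
  have hsupp : ∀ φ ∈ U', ∀ g : L, (∀ x : L, x⁻¹ * g * x ∉ H ⊔ C1) → φ g = 0 := by
    rintro φ (h | h)
    · exact (hS1 φ h).2.2.2.2
    · exact (hT φ h).2.2.2.2
  have hdisj : Disjoint S1 T := Finset.disjoint_left.2 fun φ h h' => by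
    have e := (hS1 φ h).2.1.symm.trans (hT φ h').2.1
    rw [Nat.cast_inj] at e
    have := Nat.eq_of_mul_eq_mul_left D.qp.pos e
    omega
  have hspan : ∀ α ∈ Cfsg.zspan U', Cfsg.IsGeneralizedCharacter L α ∧
      ∀ g : L, (∀ x : L, x⁻¹ * g * x ∉ H ⊔ C1) → α g = 0 := by
    intro α hα
    induction hα using Submodule.span_induction with
    | mem φ hφ => exact ⟨isGen_of_isCharacter (isCharacter_of_isIrr (hirr φ hφ)), hsupp φ hφ⟩
    | zero => exact ⟨isGen_zero, fun g _ => rfl⟩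
    | add x y _ _ hx hy =>
        exact ⟨isGen_add hx.1 hy.1, fun g hg => by rw [Pi.add_apply, hx.2 g hg, hy.2 g hg, add_zero]⟩
    | smul k x _ hx => exact ⟨isGen_zsmul hx.1 k, fun g hg => by rw [Pi.smul_apply, hx.2 g hg, smul_zero]⟩
  have hoff : ∀ α ∈ Cfsg.zspanOn U' {1}ᶜ, ∀ g, g ∉ A → α g = 0 := by
    intro α hα g hg
    by_cases h1 : g = 1
    · exact h1 ▸ apply_one_eq_zero hα
    · exact (hspan α hα.1).2 g fun x hx => hg (hA g h1 x hx)
  have hcl : ∀ α ∈ Cfsg.zspanOn U' {1}ᶜ, Cfsg.IsClassFunction L α := fun α hα =>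
    isGen_isClassFunction (hspan α hα.1).1
  have hmono : Cfsg.zspanOn U' {1}ᶜ ⊆ Cfsg.zspanOn (secS K H H0 C) {1}ᶜ := zspanOn_mono _ hsub
  -- the character induced from the principal one, and its difference with a member of `S₁`
  obtain ⟨φ₁, hφ₁⟩ : S1.Nonempty := Finset.card_pos.1 (by omega)
  haveI := Fintype.ofFinite ↥(H ⊔ C1)
  set ψ := indLin (H ⊔ C1) 1 with hψdef
  have hψH : ∀ y ∈ H, ψ y = ψ 1 := fun y hy => indLin_ker _ _ fun x =>
    ⟨Subgroup.mem_sup_left (D.conjH' x hy), rfl⟩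
  have horth : ∀ φ ∈ U', Cfsg.classInner ψ φ = 0 := by
    intro φ hφ
    by_contra h0
    obtain ⟨y, hy, hne⟩ := D.exists_val_ne (hsub hφ)
    exact hne (Constituent.constituent_apply_eq_one (indLin_isCharacter _ 1) (hirr φ hφ) h0 (hψH y hy))
  have horth' : ∀ α ∈ Cfsg.zspan U', Cfsg.classInner ψ α = 0 := by
    intro α hα
    induction hα using Submodule.span_induction with
    | mem φ hφ => exact horth φ hφ
    | zero => simpa using Coherence.inner_smul_int_right 0 ψ ψ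
    | add x y _ _ hx hy => rw [classInner_add_right, hx, hy, add_zero]
    | smul k x _ hx => rw [Coherence.inner_smul_int_right, hx, mul_zero]
  set β := ψ - φ₁ with hβdef
  have hφ₁U : φ₁ ∈ U' := Or.inl hφ₁
  have hβgen : Cfsg.IsGeneralizedCharacter L β :=
    isGen_sub (isGen_of_isCharacter (indLin_isCharacter _ 1))
      (isGen_of_isCharacter (isCharacter_of_isIrr (hirr φ₁ hφ₁U)))
  have hβoff : ∀ g, g ∉ A → β g = 0 := by
    intro g hg
    by_cases h1 : g = 1
    · rw [h1, hβdef, Pi.sub_apply, hψdef, indLin_one, D.index_sup S.C1U, S.index,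
        (hS1 φ₁ hφ₁).2.1, sub_self]
    · have h2 : ∀ x : L, x⁻¹ * g * x ∉ H ⊔ C1 := fun x hx => hg (hA g h1 x hx)
      rw [hβdef, Pi.sub_apply, hψdef, indLin_support _ _ h2, hsupp φ₁ hφ₁U g h2, sub_zero]
  have h11 : Cfsg.classInner φ₁ φ₁ = 1 := classInner_isIrr_self (hirr φ₁ hφ₁U)
  have hψφ : Cfsg.classInner φ₁ ψ = 0 := Coherence.inner_comm_zero (horth φ₁ hφ₁U)
  have hββ : Cfsg.classInner β β = (n : ℂ) + 1 := by
    rw [hβdef, classInner_sub_left, classInner_sub_right, classInner_sub_right, hn, h11,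
      horth φ₁ hφ₁U, hψφ]
    ring
  have hβ1 : Cfsg.classInner β (fun _ => 1) = 1 := by
    have e1 : Cfsg.classInner ψ (fun _ => 1) = 1 := by
      rw [hψdef, indLin, frobenius_reciprocity _ _ (fun _ _ => rfl)]
      exact classInner_isIrr_self (isIrrCharacter_linear (1 : ↥(H ⊔ C1) →* ℂˣ))
    have e2 : Cfsg.classInner φ₁ (fun _ => 1) = 0 := classInner_isIrr_ne (hirr φ₁ hφ₁U) (trivIrr L).2
      fun e => by
        obtain ⟨y, -, hne⟩ := D.exists_val_ne (hsub hφ₁U)
        exact hne (by rw [e])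
    rw [hβdef, classInner_sub_left, e1, e2, sub_zero]
  obtain ⟨χ, hχ⟩ : T.Nonempty := Finset.card_pos.1 (by omega)
  obtain ⟨hχirr, hχ1, hχS, hχc, -⟩ := hT χ hχ
  have hglue := glue τ S1 T hirr hdisj hc1 (D := q * a) (fun φ h => (hS1 φ h).2.1)
    (fun φ h => by rw [(hT φ h).2.1, ← S.u_eq]; push_cast; ring) hcard
    ⟨fun x hx y hy => hS.isometry.1 x (hmono hx) y (hmono hy),
      fun x hx => hS.isometry.2.1 x (hmono hx),
      fun x hx y hy => hS.isometry.2.2.1 x (hmono hx) y (hmono hy),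
      fun x hx => hS.isometry.2.2.2 x (hmono hx)⟩
    (fun α hα => hS.map_one α (hmono hα))
    (fun α hα => by
      rw [hone α (hcl α hα) (hoff α hα)]
      have h := (hspan α hα.1).1
      clear h
      have key : ∀ γ ∈ Cfsg.zspan U', Cfsg.classInner γ (fun _ => 1) = 0 := by
        intro γ hγ
        induction hγ using Submodule.span_induction with
        | mem φ hφ =>
            refine classInner_isIrr_ne (hirr φ hφ) (trivIrr L).2 fun e => ?_
            obtain ⟨y, -, hne⟩ := D.exists_val_ne (hsub hφ)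
            exact hne (by rw [e])
        | zero => simpa using Coherence.inner_smul_int_left 0 ψ (fun _ => (1 : ℂ))
        | add x y _ _ hx hy => rw [classInner_add_left, hx, hy, add_zero]
        | smul k x _ hx => rw [Coherence.inner_smul_int_left, hx, mul_zero]
      exact key α hα.1)
    hφ₁ (hgen β hβgen hβoff) (N := n)
    (by rw [hiso β β (isGen_isClassFunction hβgen) hβoff (isGen_isClassFunction hβgen) hβoff, hββ]; simp)
    (by rw [hone β (isGen_isClassFunction hβgen) hβoff, hβ1])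
    (fun α hα => by
      rw [hiso β α (isGen_isClassFunction hβgen) hβoff (hcl α hα) (hoff α hα), hβdef,
        classInner_sub_left, horth' α hα.1, zero_sub])
    hnT hχ hχc (hS.conj_ne χ hχS)
  -- adding the other pairs
  have hfin := Coherence.finite_mem hS
  set SF := hfin.toFinset
  have hmem : ∀ φ, φ ∈ SF ↔ φ ∈ secS K H H0 C := fun φ => hfin.mem_toFinset
  let d : (L → ℂ) → ℕ := fun φ => ⌊(φ 1).re⌋₊
  let nn : (L → ℂ) → ℕ := fun φ => ⌊(Cfsg.classInner φ φ).re⌋₊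
  have hd' : ∀ (φ : L → ℂ) (k : ℕ), φ 1 = (k : ℂ) → d φ = k := fun φ k e => by simp [d, e]
  have hd : ∀ φ ∈ secS K H H0 C, φ 1 = (d φ : ℂ) := fun φ hφ => by
    obtain ⟨m, hm, -⟩ := S.degree hφ
    rw [hd' φ _ hm, hm]
  have hnn : ∀ φ ∈ secS K H H0 C, Cfsg.classInner φ φ = (nn φ : ℂ) := fun φ hφ => by
    obtain ⟨m, hm⟩ := classInner_char_nat (hS.isCharacter φ hφ) (hS.isCharacter φ hφ)
    simp [nn, hm]
  have hpair : χ ≠ Cfsg.conjFun χ := (hS.conj_ne χ hχS).symm
  suffices key : ∀ (N : ℕ) (s : Finset (L → ℂ)), (SF \ s).card ≤ N → ↑S1 ⊆ (↑s : Set (L → ℂ)) →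
      χ ∈ s → Cfsg.conjFun χ ∈ s → s ⊆ SF → (∀ φ ∈ s, Cfsg.conjFun φ ∈ s) →
      Cfsg.IsCoherent (↑s : Set (L → ℂ)) {1}ᶜ τ → Cfsg.IsCoherent (secS K H H0 C) {1}ᶜ τ by
    refine key _ (S1 ∪ {χ, Cfsg.conjFun χ}) le_rfl (Finset.coe_subset.2 Finset.subset_union_left)
      (by simp) (by simp) ?_ ?_ ?_
    · intro φ hφ
      simp only [Finset.mem_union, Finset.mem_insert, Finset.mem_singleton] at hφ
      rcases hφ with h | rfl | rfl
      · exact (hmem φ).2 (hS1 φ h).2.2.1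
      · exact (hmem _).2 hχS
      · exact (hmem _).2 (hS.conj_mem χ hχS)
    · intro φ hφ
      simp only [Finset.mem_union, Finset.mem_insert, Finset.mem_singleton] at hφ ⊢
      rcases hφ with h | rfl | rfl
      · exact Or.inl (hS1 φ h).2.2.2.1
      · exact Or.inr (Or.inr rfl)
      · exact Or.inr (Or.inl (Coherence.conjFun_conjFun χ))
    · simpa using hglue
  intro N
  induction N with
  | zero =>
    intro s hs _ _ _ hsS _ hcoh
    rw [Nat.le_zero, Finset.card_eq_zero, Finset.sdiff_eq_empty_iff_subset] at hs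
    rwa [Finset.Subset.antisymm hsS hs, hfin.coe_toFinset] at hcoh
  | succ N ih =>
    intro s hs h1 hχs hχcs hsS hsc hcoh
    by_cases hall : SF ⊆ s
    · rwa [Finset.Subset.antisymm hsS hall, hfin.coe_toFinset] at hcoh
    obtain ⟨ξ, hξ, hξs⟩ := Finset.not_subset.1 hall
    have hξS := (hmem ξ).1 hξ
    have hξc : Cfsg.conjFun ξ ∉ s := fun h => hξs (by
      simpa [Coherence.conjFun_conjFun] using hsc _ h)
    obtain ⟨m, hm, hm0, hmu, hdvd⟩ := S.degree hξS
    have hcoh' := Coherence.extend_pair hS d nn hd hnn s (fun φ h => (hmem φ).1 (hsS h)) hsc hcoh hξS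
      hξs hξc (h1 hφ₁)
      (by rw [hd' ξ _ hm, hd' φ₁ _ (hS1 φ₁ hφ₁).2.1]; exact Nat.mul_dvd_mul_left q hdvd)
      (by
        have hsum : ∑ φ ∈ ({χ, Cfsg.conjFun χ} : Finset (L → ℂ)), ((d φ : ℝ) ^ 2 / (nn φ : ℝ)) ≤
            ∑ φ ∈ s, ((d φ : ℝ) ^ 2 / (nn φ : ℝ)) := by
          refine Finset.sum_le_sum_of_subset_of_nonneg ?_ fun φ _ _ => div_nonneg (sq_nonneg _) (Nat.cast_nonneg _)
          intro φ hφ
          simp only [Finset.mem_insert, Finset.mem_singleton] at hφ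
          rcases hφ with rfl | rfl <;> assumption
        refine lt_of_lt_of_le ?_ hsum
        have hnχ : ∀ φ, Cfsg.IsIrrCharacter L φ → nn φ = 1 := fun φ h => by
          simp [nn, classInner_isIrr_self h]
        rw [Finset.sum_pair hpair, hd' χ _ hχ1, hd' _ _ (hT _ hχc).2.1, hnχ χ hχirr,
          hnχ _ (hT _ hχc).1, hd' ξ _ hm, hd' φ₁ _ (hS1 φ₁ hφ₁).2.1]
        have h2 : q * m * (q * a) < q * C.relIndex U * (q * C.relIndex U) :=
          lt_of_le_of_lt (Nat.mul_le_mul_right _ (Nat.mul_le_mul_left q hmu))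
            (Nat.mul_lt_mul_of_pos_left (Nat.mul_lt_mul_of_pos_left hu D.qp.pos)
              (Nat.mul_pos D.qp.pos (by omega)))
        have h3 : ((q * m * (q * a) : ℕ) : ℝ) < ((q * C.relIndex U * (q * C.relIndex U) : ℕ) : ℝ) :=
          Nat.cast_lt.2 h2
        push_cast at h3 ⊢
        linarith)
    refine ih (s ∪ {ξ, Cfsg.conjFun ξ}) ?_ (h1.trans (Finset.coe_subset.2 Finset.subset_union_left)) (by simp [hχs]) (by simp [hχcs]) ?_ ?_
      (by simpa using hcoh')
    · have hsub' : SF \ (s ∪ {ξ, Cfsg.conjFun ξ}) ⊆ (SF \ s).erase ξ := by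
        intro φ hφ
        simp only [Finset.mem_sdiff, Finset.mem_union, Finset.mem_insert, Finset.mem_singleton,
          not_or] at hφ
        simp [hφ.1, hφ.2.1, hφ.2.2.1]
      have := Finset.card_le_card hsub'
      rw [Finset.card_erase_of_mem (Finset.mem_sdiff.2 ⟨hξ, hξs⟩)] at this
      omega
    · refine Finset.union_subset hsS ?_
      intro φ hφ
      simp only [Finset.mem_insert, Finset.mem_singleton] at hφ
      rcases hφ with rfl | rfl
      · exact hξ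
      · exact (hmem _).2 (hS.conj_mem ξ hξS)
    · intro φ hφ
      simp only [Finset.mem_union, Finset.mem_insert, Finset.mem_singleton] at hφ ⊢
      rcases hφ with h | rfl | rfl
      · exact Or.inl (hsc φ h)
      · exact Or.inr (Or.inr rfl)
      · exact Or.inr (Or.inl (Coherence.conjFun_conjFun ξ))

end Split

end Cfsg.Agent.OddChar.TypeP.CoreCoherence
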