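import Cfsg.Agent.OddChar.TypeP.CoreCoherence.Main
import Cfsg.Agent.OddChar.TypeP.Mu
import Cfsg.Agent.OddChar.TypeP.Subcoherent
import Cfsg.Agent.OddChar.TypeP.Dichotomy

/-!
# Peterfalvi (9.11), unconditionally
-/

set_option autoImplicit false

namespace Cfsg.Agent.OddChar.TypeP.CoreCoherence

universe u

theorem coreCoherence_proof : CoreCoherenceStatement.{u} :=
  coreCoherence mu.{u} subcoherent.{u} dichotomyStatement_proof.{u}

end Cfsg.Agent.OddChar.TypeP.CoreCoherence
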