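import Cfsg.Agent.Lib.Characters.Induction
import Cfsg.Agent.Lib.Characters.Kernel
import Cfsg.Agent.Lib.CharTheory.Basics
import Mathlib

/-!
# Functions induced from linear characters

Irreducibility, equality and norms of functions induced from linear characters of a subgroup, read
off the action on a normal subgroup contained in it.
-/

set_option autoImplicit false
set_option linter.style.haveILetI false
set_option linter.unusedSectionVars false

namespace Cfsg.Agent.OddChar.TypeP.CoreCoherence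

open Cfsg.Agent.Characters
open Cfsg.Agent.CharTheory.IndBasic (extendByZero_coe extendByZero_of_mem extendByZero_of_notMem)
open scoped ComplexConjugate

universe u

variable {L : Type u} [Group L] [Fintype L]

/-- The function induced from a linear character. -/
noncomputable def indLin (N : Subgroup L) (lam : N →* ℂˣ) : L → ℂ :=
  Cfsg.indFun N fun n => (lam n : ℂ)

theorem indLin_isCharacter (N : Subgroup L) (lam : N →* ℂˣ) : Cfsg.IsCharacter L (indLin N lam) := by
  haveI := Fintype.ofFinite N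
  exact isCharacter_indFun N (isCharacter_linear lam)

theorem indLin_one (N : Subgroup L) (lam : N →* ℂˣ) : indLin N lam 1 = (N.index : ℂ) := by
  rw [indLin, indFun_one, map_one, Units.val_one, mul_one]

theorem conj_hom {A : Subgroup L} (lam : A →* ℂˣ) (n : A) :
    conj (lam n : ℂ) = ((lam n)⁻¹ : ℂˣ) := by
  rw [Units.val_inv_eq_inv_val, Complex.inv_def, Complex.normSq_eq_norm_sq, linear_norm_eq_one lam n]
  simp

theorem indLin_conj (N : Subgroup L) (lam : N →* ℂˣ) :
    (fun g => conj (indLin N lam g)) = indLin N lam⁻¹ := by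
  funext g
  simp only [indLin, Cfsg.indFun, map_mul, map_sum, map_inv₀, Complex.conj_natCast]
  refine congrArg _ (Finset.sum_congr rfl fun x _ => ?_)
  by_cases hx : x⁻¹ * g * x ∈ N
  · rw [extendByZero_of_mem N _ hx, extendByZero_of_mem N _ hx, conj_hom, MonoidHom.inv_apply]
  · rw [extendByZero_of_notMem N _ hx, extendByZero_of_notMem N _ hx, map_zero]

theorem indLin_support (N : Subgroup L) (lam : N →* ℂˣ) {g : L}
    (hg : ∀ x : L, x⁻¹ * g * x ∉ N) : indLin N lam g = 0 := by
  rw [indLin, Cfsg.indFun, Finset.sum_eq_zero fun x _ => extendByZero_of_notMem N _ (hg x), mul_zero]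

/-- Where every conjugate is in the kernel, the induced function takes its value at one. -/
theorem indLin_ker (N : Subgroup L) (lam : N →* ℂˣ) {g : L}
    (hg : ∀ x : L, ∃ hx : x⁻¹ * g * x ∈ N, lam ⟨_, hx⟩ = 1) : indLin N lam g = indLin N lam 1 := by
  rw [indLin, Cfsg.indFun, Cfsg.indFun]
  refine congrArg _ (Finset.sum_congr rfl fun x _ => ?_)
  obtain ⟨hx, h1⟩ := hg x
  have h2 : x⁻¹ * 1 * x ∈ N := by simp
  rw [extendByZero_of_mem N _ hx, extendByZero_of_mem N _ h2, h1,
    show (⟨x⁻¹ * 1 * x, h2⟩ : N) = 1 from Subtype.ext (by simp), map_one]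

variable (N : Subgroup L) [Fintype N]

/-- The contribution of `x` to an inner product of induced linear characters. -/
noncomputable def term (lam lam' : N →* ℂˣ) (x : L) : ℂ :=
  ∑ n : N, (lam n : ℂ) * conj (Cfsg.extendByZero N (fun m => (lam' m : ℂ)) (x⁻¹ * n * x))

theorem inner_indLin (lam lam' : N →* ℂˣ) :
    Cfsg.classInner (indLin N lam) (indLin N lam') =
      (Nat.card N : ℂ)⁻¹ * ((Nat.card N : ℂ)⁻¹ * ∑ x : L, term N lam lam' x) := by
  simp only [indLin]
  rw [frobenius_reciprocity N _ (indFun_isClassFunction N _), classInner_def]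
  congr 1
  simp only [indLin, Cfsg.indFun, map_mul, map_sum, map_inv₀, Complex.conj_natCast, term,
    Finset.mul_sum]
  rw [Finset.sum_comm]
  exact Finset.sum_congr rfl fun x _ => Finset.sum_congr rfl fun n _ => by ring

theorem term_mem {lam lam' : N →* ℂˣ} {x : L} (hx : ∀ n : N, x⁻¹ * n * x ∈ N) :
    term N lam lam' x = ∑ n : N, ((lam n * (lam' ⟨_, hx n⟩)⁻¹ : ℂˣ) : ℂ) := by
  refine Finset.sum_congr rfl fun n _ => ?_
  rw [extendByZero_of_mem N _ (hx n), conj_hom, Units.val_mul]

variable (H : Subgroup L) [hH : H.Normal] (hHN : H ≤ N)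

/-- `x` carries the restriction of `lam` to `H` to that of `lam'`. -/
def Moves (lam lam' : N →* ℂˣ) (x : L) : Prop :=
  ∀ (h : L) (hh : h ∈ H), lam' ⟨x⁻¹ * h * x, hHN (by simpa using hH.conj_mem h hh x⁻¹)⟩ = lam ⟨h, hHN hh⟩

theorem term_eq_zero {lam lam' : N →* ℂˣ} {x : L} (hx : ¬ Moves N H hHN lam lam' x) :
    term N lam lam' x = 0 := by
  simp only [Moves, not_forall] at hx
  obtain ⟨h, hh, hne⟩ := hx
  set h₀ : N := ⟨h, hHN hh⟩
  have hc : x⁻¹ * h * x ∈ N := hHN (by simpa using hH.conj_mem h hh x⁻¹)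
  set z : ℂˣ := lam h₀ * (lam' ⟨_, hc⟩)⁻¹ with hz
  have hz1 : (z : ℂ) ≠ 1 := fun e => hne (mul_inv_eq_one.1 (Units.ext e)).symm
  have hshift : ∀ n : N, (lam (h₀ * n) : ℂ) *
      conj (Cfsg.extendByZero N (fun m => (lam' m : ℂ)) (x⁻¹ * (h₀ * n : N) * x)) =
      (z : ℂ) * ((lam n : ℂ) *
        conj (Cfsg.extendByZero N (fun m => (lam' m : ℂ)) (x⁻¹ * n * x))) := by
    intro n
    have e : x⁻¹ * ((h₀ * n : N) : L) * x = (x⁻¹ * h * x) * (x⁻¹ * n * x) := by
      simp [h₀, mul_assoc]
    rw [e]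
    by_cases hn : x⁻¹ * (n : L) * x ∈ N
    · rw [extendByZero_of_mem N _ hn, extendByZero_of_mem N _ (N.mul_mem hc hn)]
      rw [show (⟨_, N.mul_mem hc hn⟩ : N) = (⟨_, hc⟩ : N) * ⟨_, hn⟩ from rfl, map_mul, map_mul,
        Units.val_mul, Units.val_mul, map_mul, hz, Units.val_mul, conj_hom lam' ⟨_, hc⟩]
      ring
    · rw [extendByZero_of_notMem N _ hn,
        extendByZero_of_notMem N _ fun h' => hn ((N.mul_mem_cancel_left hc).1 h'), map_zero,
        mul_zero, mul_zero, mul_zero]
  have key : term N lam lam' x = (z : ℂ) * term N lam lam' x := by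
    conv_lhs => rw [term, ← Equiv.sum_comp (Equiv.mulLeft h₀)]
    rw [term, Finset.mul_sum]
    exact Finset.sum_congr rfl fun n _ => hshift n
  by_contra h0
  exact hz1 ((mul_eq_right₀ h0).1 key.symm)

/-- A linear character whose restriction to `H` has stabiliser `N` induces irreducibly. -/
theorem irr_indLin {lam : N →* ℂˣ} (hstab : ∀ x : L, Moves N H hHN lam lam x → x ∈ N) :
    Cfsg.IsIrrCharacter L (indLin N lam) := by
  classical
  refine isIrr_of_gen_norm_one (isGen_of_isCharacter (indLin_isCharacter N lam)) ?_ ?_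
  · rw [inner_indLin, ← Finset.sum_subset (Finset.subset_univ (Finset.univ.filter fun x => x ∈ N))
      fun x _ hx => term_eq_zero N H hHN fun hm => hx (by simpa using hstab x hm)]
    have hterm : ∀ x ∈ Finset.univ.filter (fun x => x ∈ N), term N lam lam x = (Nat.card N : ℂ) := by
      intro x hx
      have hxN : x ∈ N := by simpa using hx
      rw [term_mem N fun n => N.mul_mem (N.mul_mem (N.inv_mem hxN) n.2) hxN]
      have h1 : ∀ n : N, lam ⟨x⁻¹ * n * x, N.mul_mem (N.mul_mem (N.inv_mem hxN) n.2) hxN⟩ = lam n :=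
        fun n => by
          rw [show (⟨x⁻¹ * n * x, N.mul_mem (N.mul_mem (N.inv_mem hxN) n.2) hxN⟩ : N) =
            ⟨x, hxN⟩⁻¹ * n * ⟨x, hxN⟩ from rfl, map_mul, map_mul, map_inv, inv_mul_cancel_comm]
      simp [h1, Nat.card_eq_fintype_card]
    rw [Finset.sum_congr rfl hterm, Finset.sum_const, nsmul_eq_mul,
      show (Finset.univ.filter fun x : L => x ∈ N).card = Nat.card N by
        rw [Nat.card_eq_fintype_card, Fintype.card_subtype]]
    have hN0 : (Nat.card N : ℂ) ≠ 0 := Nat.cast_ne_zero.2 Nat.card_pos.ne'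
    field_simp
  · rw [indLin_one, Complex.natCast_re]
    exact Nat.cast_pos.2 (Nat.pos_of_ne_zero Subgroup.index_ne_zero_of_finite)

/-- Equal irreducible inductions come from conjugate linear characters. -/
theorem conj_of_indLin_eq {lam lam' : N →* ℂˣ} (hirr : Cfsg.IsIrrCharacter L (indLin N lam))
    (heq : indLin N lam = indLin N lam') (P : Subgroup L)
    (hP : ∀ x : L, Moves N H hHN lam lam' x → x ∈ P) (hPN : ∀ x ∈ P, ∀ n ∈ N, x⁻¹ * n * x ∈ N) :
    ∃ (x : L) (hx : x ∈ P), ∀ n : N, lam' ⟨x⁻¹ * n * x, hPN x hx n n.2⟩ = lam n := by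
  by_contra hcon
  push Not at hcon
  have h0 : Cfsg.classInner (indLin N lam) (indLin N lam') = 0 := by
    rw [inner_indLin, Finset.sum_eq_zero fun x _ => ?_, mul_zero, mul_zero]
    by_cases hm : Moves N H hHN lam lam' x
    swap
    · exact term_eq_zero N H hHN hm
    obtain ⟨n₀, hn₀⟩ := hcon x (hP x hm)
    rw [term_mem N fun n => hPN x (hP x hm) n n.2]
    have hx := fun n : N => hPN x (hP x hm) n n.2
    let φ : N →* ℂˣ :=
      { toFun := fun n => lam n * (lam' ⟨_, hx n⟩)⁻¹
        map_one' := by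
          rw [show (⟨_, hx 1⟩ : N) = 1 from Subtype.ext (by simp)]
          simp
        map_mul' := fun a b => by
          rw [show (⟨_, hx (a * b)⟩ : N) = ⟨_, hx a⟩ * ⟨_, hx b⟩ from Subtype.ext (by simp [mul_assoc]),
            map_mul, map_mul, mul_inv, mul_mul_mul_comm] }
    have hφ : φ ≠ 1 := fun e => hn₀ (mul_inv_eq_one.1 (DFunLike.congr_fun e n₀)).symm
    obtain ⟨m, hm'⟩ : ∃ m, φ m ≠ 1 := not_forall.1 fun h => hφ (MonoidHom.ext h)
    have key : ∑ n : N, (φ n : ℂ) = (φ m : ℂ) * ∑ n : N, (φ n : ℂ) := by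
      conv_lhs => rw [← Equiv.sum_comp (Equiv.mulLeft m)]
      rw [Finset.mul_sum]
      exact Finset.sum_congr rfl fun n _ => by simp
    by_contra h0
    exact hm' (Units.ext ((mul_eq_right₀ h0).1 key.symm))
  rw [← heq, classInner_isIrr_self hirr] at h0
  exact one_ne_zero h0

/-- The norm of an induced principal character, `K ≥ N` normalising `N`. -/
theorem norm_indOne_le (K : Subgroup L) {m : ℕ}
    (hm : Cfsg.classInner (indLin N 1) (indLin N 1) = (m : ℂ)) (hNK : N ≤ K)
    (hout : ∀ x : L, x ∉ K → 3 * Nat.card {n : N // x⁻¹ * (n : L) * x ∈ N} ≤ Nat.card N) :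
    3 * m * Nat.card N ≤ 3 * Nat.card K + (Nat.card L - Nat.card K) := by
  classical
  have hterm : ∀ x : L, term N 1 1 x =
      ((Finset.univ.filter fun n : N => x⁻¹ * (n : L) * x ∈ N).card : ℂ) := by
    intro x
    rw [Finset.card_filter, Nat.cast_sum, term]
    refine Finset.sum_congr rfl fun n _ => ?_
    by_cases hn : x⁻¹ * (n : L) * x ∈ N
    · rw [extendByZero_of_mem N _ hn, if_pos hn]; simp
    · rw [extendByZero_of_notMem N _ hn, if_neg hn]; simp
  rw [inner_indLin, Finset.sum_congr rfl fun x _ => hterm x, ← Nat.cast_sum] at hm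
  have hN0 : (Nat.card N : ℂ) ≠ 0 := Nat.cast_ne_zero.2 Nat.card_pos.ne'
  rw [← mul_assoc, ← mul_inv, inv_mul_eq_iff_eq_mul₀ (mul_ne_zero hN0 hN0)] at hm
  have hS : (∑ x : L, (Finset.univ.filter fun n : N => x⁻¹ * (n : L) * x ∈ N).card) =
      Nat.card N * Nat.card N * m := by exact_mod_cast hm
  have h1 : ∀ x : L, 3 * (Finset.univ.filter fun n : N => x⁻¹ * (n : L) * x ∈ N).card ≤
      if x ∈ K then 3 * Nat.card N else Nat.card N := by
    intro x
    split_ifs with hx
    · exact Nat.mul_le_mul_left _ ((Finset.card_le_univ _).trans_eq Nat.card_eq_fintype_card.symm)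
    · have := hout x hx
      rwa [Nat.card_eq_fintype_card, Fintype.card_subtype] at this
  have h2 := Finset.sum_le_sum (s := (Finset.univ : Finset L)) fun x _ => h1 x
  rw [← Finset.mul_sum, hS, Finset.sum_ite, Finset.sum_const, Finset.sum_const, smul_eq_mul,
    smul_eq_mul] at h2
  have hK : (Finset.univ.filter fun x : L => x ∈ K).card = Nat.card K := by
    rw [Nat.card_eq_fintype_card, Fintype.card_subtype]
  have hKc : (Finset.univ.filter fun x : L => ¬ x ∈ K).card = Nat.card L - Nat.card K := by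
    have h := Finset.card_filter_add_card_filter_not (s := (Finset.univ : Finset L)) (fun x : L => x ∈ K)
    rw [Finset.card_univ, ← Nat.card_eq_fintype_card] at h
    omega
  rw [hK, hKc] at h2
  refine Nat.le_of_mul_le_mul_right (c := Nat.card N) ?_ Nat.card_pos
  calc 3 * m * Nat.card N * Nat.card N = 3 * (Nat.card N * Nat.card N * m) := by ring
    _ ≤ Nat.card K * (3 * Nat.card N) + (Nat.card L - Nat.card K) * Nat.card N := h2
    _ = _ := by ring

end Cfsg.Agent.OddChar.TypeP.CoreCoherence
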