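import Cfsg.Agent.OddChar.TypeP.Interfaces
import Cfsg.Agent.OddChar.TypeP.CoreCoherence.Assemble
import Cfsg.Agent.OddChar.TypeOne.Coherent
import Cfsg.Agent.OddLocal.FittingStructure
import Cfsg.Agent.S1500
import Cfsg.Agent.S1501
import Cfsg.Agent.S1502
import Cfsg.Agent.S1537
import Mathlib

/-!
# Peterfalvi (9.11): `S(H₀ C')` is coherent
-/

set_option autoImplicit false
set_option linter.style.haveILetI false
set_option linter.unusedSectionVars false

namespace Cfsg.Agent.OddChar.TypeP.CoreCoherence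

open Cfsg Subgroup
open Cfsg.Agent.Characters

universe u

variable {G : Type u} [Group G]

theorem card_subgroupOf {A M : Subgroup G} (h : A ≤ M) : Nat.card (A.subgroupOf M) = Nat.card A :=
  Nat.card_congr (Subgroup.subgroupOfEquivOfLe h).toEquiv

theorem subgroupOf_sup_derived {A B M : Subgroup G} (hA : A ≤ M) (hB : B ≤ M) :
    (A ⊔ ⁅B, B⁆).subgroupOf M = A.subgroupOf M ⊔ ⁅B.subgroupOf M, B.subgroupOf M⁆ := by
  have hBB : ⁅B, B⁆ ≤ M := (Subgroup.commutator_le_self B).trans hB
  refine Subgroup.map_injective M.subtype_injective ?_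
  rw [Subgroup.map_subgroupOf_eq_of_le (sup_le hA hBB), Subgroup.map_sup, Subgroup.map_commutator,
    Subgroup.map_subgroupOf_eq_of_le hA, Subgroup.map_subgroupOf_eq_of_le hB]

variable {M W₁ U W₂ H₀ C : Subgroup G} {r : ℕ}

theorem C_le_U (hC : ChiefData M W₁ U W₂ H₀ C r) : C ≤ U := fun c hc => by
  have h : c ∈ sectionCentralizer U (fittingHallOf M) H₀ := hC.cent ▸ hc
  exact h.1

theorem U_le (hP : IsTypePWith M W₁ U W₂) : U ≤ ⁅M, M⁆ := hP.U_compl.2.1

theorem derived_le_self (M : Subgroup G) : ⁅M, M⁆ ≤ M := Subgroup.commutator_le_self M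

theorem fitting_le_derived (hP : IsTypePWith M W₁ U W₂) : fittingHallOf M ≤ ⁅M, M⁆ := hP.U_compl.1

theorem derivedIn_eq (M : Subgroup G) : derivedIn M = commutator ↥M := by
  refine Subgroup.map_injective M.subtype_injective ?_
  rw [derivedIn, Subgroup.map_subgroupOf_eq_of_le (derived_le_self M), Subgroup.map_subtype_commutator]

theorem fitting_le_typeCore (hP : IsTypePWith M W₁ U W₂) : fittingHallOf M ≤ typeCore M := by
  rw [typeCore]
  split_ifs
  · exact fitting_le_derived hP
  · exact le_rfl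

variable [Finite G]

theorem sect (hodd : Odd (Nat.card G)) (hP : IsTypePWith M W₁ U W₂) (hq : (Nat.card W₁).Prime)
    (hC : ChiefData M W₁ U W₂ H₀ C r) :
    Sect (derivedIn M) ((fittingHallOf M).subgroupOf M) (H₀.subgroupOf M) (U.subgroupOf M)
      (C.subgroupOf M) (W₁.subgroupOf M) r (Nat.card W₁) where
  Kn := by rw [derivedIn_eq]; infer_instance
  Hn := (normal_subgroupOf_iff_le_normalizer (OddLocal.FittingStructure.fittingHallOf_le M)).2
    (OddLocal.FittingStructure.le_normalizer_fittingHallOf M)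
  H0n := (normal_subgroupOf_iff_le_normalizer
    (hC.le.trans (OddLocal.FittingStructure.fittingHallOf_le M))).2 hC.normal
  H0H := fun _ hx => hC.le hx
  HK := fun _ hx => fitting_le_derived hP hx
  UK := fun _ hx => U_le hP hx
  HU := by
    refine (Subgroup.eq_bot_iff_forall _).2 fun x hx => ?_
    have : (x : G) ∈ fittingHallOf M ⊓ U := hx
    rw [hP.U_compl.2.2.1, Subgroup.mem_bot] at this
    exact Subtype.ext this
  prod := fun k hk => by
    obtain ⟨a, ha, b, hb, e⟩ := hP.U_compl.2.2.2 k hk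
    exact ⟨⟨a, derived_le_self M (fitting_le_derived hP ha)⟩, ha,
      ⟨b, derived_le_self M (U_le hP hb)⟩, hb, Subtype.ext e⟩
  KW := by
    refine (Subgroup.eq_bot_iff_forall _).2 fun x hx => ?_
    have : (x : G) ∈ ⁅M, M⁆ ⊓ W₁ := hx
    rw [hP.W₁_compl.2.2.1, Subgroup.mem_bot] at this
    exact Subtype.ext this
  top := fun x => by
    obtain ⟨a, ha, b, hb, e⟩ := hP.W₁_compl.2.2.2 x x.2
    exact ⟨⟨a, derived_le_self M ha⟩, ha, ⟨b, hP.W₁_compl.2.1 hb⟩, hb, Subtype.ext e⟩
  Wq := card_subgroupOf hP.W₁_compl.2.1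
  qp := hq
  odd := hodd.of_dvd_nat (Subgroup.card_subgroup_dvd_card M)
  cop := by
    haveI : ((fittingHallOf M).subgroupOf M).Normal :=
      (normal_subgroupOf_iff_le_normalizer (OddLocal.FittingStructure.fittingHallOf_le M)).2
        (OddLocal.FittingStructure.le_normalizer_fittingHallOf M)
    have h1 : Nat.card (U.subgroupOf M) ∣ ((fittingHallOf M).subgroupOf M).index := by
      have h2 := Subgroup.relIndex_dvd_index_of_normal
        (H := (fittingHallOf M).subgroupOf M) (K := U.subgroupOf M)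
      rwa [Subgroup.relIndex, show ((fittingHallOf M).subgroupOf M).subgroupOf (U.subgroupOf M) = ⊥ from
        Subgroup.subgroupOf_eq_bot.2 (disjoint_iff.2 ((Subgroup.eq_bot_iff_forall _).2 fun x hx => by
          have : (x : G) ∈ fittingHallOf M ⊓ U := hx
          rw [hP.U_compl.2.2.1, Subgroup.mem_bot] at this
          exact Subtype.ext this)), Subgroup.index_bot] at h2
    refine Nat.Coprime.coprime_dvd_right h1 ?_
    rw [card_subgroupOf (OddLocal.FittingStructure.fittingHallOf_le M)]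
    exact OddLocal.FittingStructure.fittingHallOf_hall M
  fpf := fun w hw hw1 u hu e => by
    have h1 : (u : G) ∈ W₂ := by
      rw [← hP.W₂_centralizer w hw fun e => hw1 (Subtype.ext e)]
      exact ⟨U_le hP hu, Subgroup.mem_centralizer_singleton_iff.2 (congrArg Subtype.val e).symm⟩
    have h2 : (u : G) ∈ fittingHallOf M ⊓ U := ⟨(hP.W₂_le h1).1, hu⟩
    rw [hP.U_compl.2.2.1, Subgroup.mem_bot] at h2
    exact Subtype.ext h2
  WU := fun w hw u hu => (Subgroup.mem_normalizer_iff.1 (hP.U_normal hw) _).1 hu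
  CU := fun _ hx => C_le_U hC hx
  derU := fun u hu v hv => hC.derived_le (by
    simpa [commutatorElement_def] using Subgroup.commutator_mem_commutator (show (u : G) ∈ U from hu) (show (v : G) ∈ U from hv))
  cent := fun u hu => by
    have h : (u : G) ∈ C ↔ (u : G) ∈ sectionCentralizer U (fittingHallOf M) H₀ := by
      rw [← hC.cent]; rfl
    refine h.trans ⟨fun h' x hx => h'.2 x hx, fun h' => ⟨hu, fun x hx => ?_⟩⟩
    exact h' ⟨x, OddLocal.FittingStructure.fittingHallOf_le M hx⟩ hx
  rp := hC.prime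
  abel := fun a ha b hb => hC.abelian a ha b hb
  card := by
    rw [card_subgroupOf (OddLocal.FittingStructure.fittingHallOf_le M),
      card_subgroupOf (hC.le.trans (OddLocal.FittingStructure.fittingHallOf_le M))]
    exact hC.card

theorem split (hodd : Odd (Nat.card G)) (hP : IsTypePWith M W₁ U W₂) (hq : (Nat.card W₁).Prime)
    (hC : ChiefData M W₁ U W₂ H₀ C r) {H₁ C₁ : Subgroup G} {a : ℕ}
    (hS : SplitData M W₁ U W₂ H₀ C H₁ C₁ r a) :
    Split (derivedIn M) ((fittingHallOf M).subgroupOf M) (H₀.subgroupOf M) (U.subgroupOf M)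
      (C.subgroupOf M) (W₁.subgroupOf M) (H₁.subgroupOf M) (C₁.subgroupOf M) r (Nat.card W₁) a := by
  have hFM := OddLocal.FittingStructure.fittingHallOf_le M
  have hUM : U ≤ M := (U_le hP).trans (derived_le_self M)
  have hC₁U : C₁ ≤ U := fun c hc => by
    have h : c ∈ sectionCentralizer U H₁ H₀ := hS.cent₁ ▸ hc
    exact h.1
  exact
  { sect := sect hodd hP hq hC
    le0 := fun _ hx => hS.le₀ hx
    le := fun _ hx => hS.le hx
    norm := fun u hu y hy => (Subgroup.mem_normalizer_iff.1 (hS.normal hu) _).1 hy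
    line_card := by rw [Subgroup.relIndex_subgroupOf (hS.le.trans hFM)]; exact hS.line
    span := fun P hP' y hy => by
      have h : fittingHallOf M ≤ P.map M.subtype := by
        rw [← hS.span]
        refine iSup₂_le fun w hw => ?_
        rintro _ ⟨z, hz, rfl⟩
        exact ⟨⟨w, hP.W₁_compl.2.1 hw⟩ * ⟨z, hFM (hS.le hz)⟩ * ⟨w, hP.W₁_compl.2.1 hw⟩⁻¹,
          hP' ⟨w, hP.W₁_compl.2.1 hw⟩ hw ⟨z, hFM (hS.le hz)⟩ hz, rfl⟩
      obtain ⟨z, hz, e⟩ := h hy
      exact (Subtype.ext e : z = y) ▸ hz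
    C1U := fun _ hx => hC₁U hx
    cent1 := fun u hu => by
      have h : (u : G) ∈ C₁ ↔ (u : G) ∈ sectionCentralizer U H₁ H₀ := by rw [← hS.cent₁]; rfl
      refine h.trans ⟨fun h' x hx => h'.2 x hx, fun h' => ⟨hu, fun x hx => ?_⟩⟩
      exact h' ⟨x, hFM (hS.le hx)⟩ hx
    index := by rw [Subgroup.relIndex_subgroupOf hUM]; exact hS.index₁
    one_lt := hS.one_lt
    dvd := hS.dvd
    centEq := fun u _ => by
      have h : (u : G) ∈ C ↔ ∀ w ∈ W₁, w * (u : G) * w⁻¹ ∈ C₁ := by
        show (u : G) ∈ (C : Set G) ↔ _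
        rw [hS.cent_eq]; rfl
      refine h.trans ⟨fun h' w hw => h' w hw, fun h' w hw => ?_⟩
      exact h' ⟨w, hP.W₁_compl.2.1 hw⟩ hw
    uBound := by rw [Subgroup.relIndex_subgroupOf hUM]; exact hS.index_dvd }

omit [Finite G] in
/-- `S(H₀ C')` in the abstract notation. -/
theorem calSH_eq [Fintype ↥M] (h₀ : H₀ ≤ M) (hC : C ≤ M) :
    calSH M (H₀ ⊔ ⁅C, C⁆) =
      secS (derivedIn M) ((fittingHallOf M).subgroupOf M) (H₀.subgroupOf M) (C.subgroupOf M) := by
  rw [calSH, secS, subgroupOf_sup_derived h₀ hC]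

omit [Finite G] in
theorem calSH_subset [Fintype G] [Fintype ↥M] (hP : IsTypePWith M W₁ U W₂) (X : Subgroup G) :
    calSH M X ⊆ calS M := fun _ h =>
  ⟨Coherence.above_mono _ bot_le h.1, fun h' => h.2
    (Coherence.above_mono (A := (fittingHallOf M).subgroupOf M) (A' := (typeCore M).subgroupOf M)
      _ (fun _ hx => fitting_le_typeCore hP hx) h')⟩

omit [Finite G] in
/-- `tau M` as a linear map. -/
noncomputable def tauLin (M : Subgroup G) [Fintype ↥M] : (↥M → ℂ) →ₗ[ℂ] (G → ℂ) where
  toFun := tau M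
  map_add' := TypeOne.dade_add _ _ _
  map_smul' c α := by
    funext g
    simp only [tau, Pi.smul_apply, RingHom.id_apply, dadeIsometry]
    split_ifs <;> simp

/-- **Peterfalvi (9.11)**: `S(H₀ C')` is coherent. -/
theorem coreCoherence (hMu : MuStatement.{u}) (hSub : SubcoherentStatement.{u})
    (hDich : DichotomyStatement.{u}) : CoreCoherenceStatement.{u} := by
  intro G _ _ hG M W₁ U W₂ H₀ C r _ hM hP hq hC
  classical
  obtain ⟨η, hη⟩ := S1502.result W₁ W₂ hP.selfNormalizing
    (hG.1.of_dvd_nat (Subgroup.card_subgroup_dvd_card _))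
  obtain ⟨μ, δ, hμ⟩ := hMu hG M W₁ U W₂ hM hP
  obtain ⟨R, hR, -⟩ := hSub hG M W₁ U W₂ hM hP η hη μ δ hμ
  have D := sect hG.1 hP hq hC
  have h₀M : H₀ ≤ M := hC.le.trans (OddLocal.FittingStructure.fittingHallOf_le M)
  have hUM : U ≤ M := (U_le hP).trans (derived_le_self M)
  have heq := calSH_eq (M := M) h₀M ((C_le_U hC).trans hUM)
  have hS : IsCoherenceSystem
      (secS (derivedIn M) ((fittingHallOf M).subgroupOf M) (H₀.subgroupOf M) (C.subgroupOf M))
      (tau M) R := by
    refine Coherence.subsystem hR ?_ D.nonempty fun φ hφ => D.secS_conj hφ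
    rw [← heq]; exact calSH_subset hP _
  rw [heq]
  obtain hGal | ⟨H₁, C₁, a, hSp⟩ := hDich hG M W₁ U W₂ H₀ C r hM hP hq hC
  · refine D.coherent_galois (fun u hu huC h hh hc => ?_) hS
    exact hGal.free u hu (fun e => huC e) h hh hc
  · have S := split hG.1 hP hq hC hSp
    obtain ⟨-, hDade⟩ := S1537.result hG M hM (typeA0 M) (Or.inr (Or.inr rfl))
    refine S.coherent_split (tauLin M) hS {g : ↥M | (g : G) ∈ typeA0 M} ?_ ?_ ?_ ?_
    · intro g hg1 x hx
      have hy1 : x⁻¹ * g * x ≠ 1 := fun e => hg1 (by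
        calc g = x * (x⁻¹ * g * x) * x⁻¹ := by group
          _ = 1 := by rw [e]; group)
      obtain ⟨y, hy, hy1', hcomm⟩ := S.exists_comm hx hy1
      have hK : x⁻¹ * g * x ∈ derivedIn M := D.sup_le_K S.C1U hx
      have hmem : ((x⁻¹ * g * x : ↥M) : G) ∈ typeA0 M := by
        refine Or.inl ?_
        rw [typeA]
        split_ifs
        · exact ⟨SetLike.coe_mem _, fun e => hy1 (Subtype.ext e), y, hy,
            fun e => hy1' (Subtype.ext e), congrArg Subtype.val hcomm⟩
        · exact ⟨hK, fun e => hy1 (Subtype.ext e), y, fitting_le_typeCore hP hy,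
            fun e => hy1' (Subtype.ext e), congrArg Subtype.val hcomm⟩
      have h2 := hDade.conj_mem x x.2 _ hmem
      simpa [mul_assoc] using h2
    · intro α β hα hαA hβ hβA
      exact (S1500.result (typeA0 M) M (supportR M) hDade α hα hαA).1 β hβ hβA
    · intro α hα hαA
      refine (S1500.result (typeA0 M) M (supportR M) hDade α hα hαA).2 _ (fun _ => 1)
        (fun _ _ => rfl) fun b _ => ?_
      rw [finsum_mem_eq_finite_toFinset_sum _ (Set.toFinite _), Finset.sum_const, nsmul_eq_mul,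
        mul_one, ← Set.ncard_eq_toFinset_card _ (Set.toFinite _), ← Nat.card_coe_set_eq]
      exact (inv_mul_cancel₀ (Nat.cast_ne_zero.2 Nat.card_pos.ne')).symm
    · intro α hα hαA
      exact S1501.result (typeA0 M) M (supportR M) hDade α hα hαA

end Cfsg.Agent.OddChar.TypeP.CoreCoherence
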