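import Cfsg.Agent.OddChar.TypeP.CoreCoherence.Sect
import Cfsg.Agent.OddChar.Coherence.Central
import Cfsg.Agent.Lib.CharTheory.Basics
import Cfsg.Agent.S0854
import Mathlib

/-!
# The members of `S(H₀ C')` and their degrees
-/

set_option autoImplicit false
set_option linter.style.haveILetI false
set_option linter.unusedSectionVars false

namespace Cfsg.Agent.OddChar.TypeP.CoreCoherence

open Cfsg.Agent.Characters
open scoped ComplexConjugate

universe u

variable {L : Type u} [Group L] [Fintype L]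

/-- The characters induced from irreducible characters of `K` trivial on `H₀ C'`, nontrivial on `H`. -/
def secS (K H H0 C : Subgroup L) : Set (L → ℂ) :=
  Cfsg.inducedIrrAbove K (H0 ⊔ ⁅C, C⁆) \ Cfsg.inducedIrrAbove K H

theorem inner_self_char {Φ : L → ℂ} (h1 : Φ 1 ≠ 0) : Cfsg.classInner Φ Φ ≠ 0 := fun e =>
  h1 (congrFun (Coherence.eq_zero_of_re_le (f := Φ) (le_of_eq (by rw [e, Complex.zero_re]))) 1)

namespace Sect

variable {K H H0 U C W : Subgroup L} {r q : ℕ}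

/-- A constituent of a function induced from `K` is trivial where the latter is. -/
theorem theta_trivial (D : Sect K H H0 U C W r q) {θ : K → ℂ} (hθ : Cfsg.IsIrrCharacter K θ)
    {a : K} (ha : Cfsg.indFun K θ a = Cfsg.indFun K θ 1) : θ a = θ 1 := by
  haveI := Fintype.ofFinite K
  haveI := D.Kn
  have hc := isCharacter_indFun K (isCharacter_of_isIrr hθ)
  refine Constituent.constituent_apply_eq_one (isCharacter_restrict K hc) hθ ?_
    (g := a) (by simpa using ha)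
  rw [← frobenius_reciprocity' K θ (char_isClassFunction hc)]
  refine inner_self_char ?_
  rw [indFun_one]
  exact mul_ne_zero (Nat.cast_ne_zero.2 Subgroup.index_ne_zero_of_finite) (irr_one_ne_zero hθ)

theorem mem_of_theta (D : Sect K H H0 U C W r q) {θ : K → ℂ} (hθ : Cfsg.IsIrrCharacter K θ)
    (hX : ∀ a : K, (a : L) ∈ H0 ⊔ ⁅C, C⁆ → θ a = θ 1) {y : K} (hy : (y : L) ∈ H)
    (hne : θ y ≠ θ 1) : Cfsg.indFun K θ ∈ secS K H H0 C := by
  haveI := D.Kn
  haveI := D.Hn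
  refine ⟨⟨θ, hθ, fun e => hne (by rw [e]), hX, rfl⟩, ?_⟩
  rintro ⟨θ', -, -, hker, e⟩
  refine hne (D.theta_trivial hθ ?_)
  rw [e]
  exact Coherence.ind_eq_one_on K H hker hy D.HK

theorem exists_rep (_D : Sect K H H0 U C W r q) {φ : L → ℂ} (hφ : φ ∈ secS K H H0 C) :
    ∃ θ : K → ℂ, Cfsg.IsIrrCharacter K θ ∧ (∀ a : K, (a : L) ∈ H0 ⊔ ⁅C, C⁆ → θ a = θ 1) ∧
      (∃ y : K, (y : L) ∈ H ∧ θ y ≠ θ 1) ∧ φ = Cfsg.indFun K θ := by
  obtain ⟨⟨θ, hθ, h1, hX, rfl⟩, hnot⟩ := hφ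
  refine ⟨θ, hθ, hX, ?_, rfl⟩
  by_contra hcon
  push Not at hcon
  exact hnot ⟨θ, hθ, h1, hcon, rfl⟩

theorem secS_conj (_D : Sect K H H0 U C W r q) {φ : L → ℂ} (hφ : φ ∈ secS K H H0 C) :
    Cfsg.conjFun φ ∈ secS K H H0 C := by
  refine ⟨Coherence.above_conj K _ hφ.1, fun h => hφ.2 ?_⟩
  have := Coherence.above_conj K _ h
  rwa [Coherence.conjFun_conjFun] at this

theorem exists_val_ne (D : Sect K H H0 U C W r q) {φ : L → ℂ} (hφ : φ ∈ secS K H H0 C) :
    ∃ y ∈ H, φ y ≠ φ 1 := by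
  obtain ⟨θ, hθ, -, ⟨y, hy, hne⟩, rfl⟩ := D.exists_rep hφ
  exact ⟨y, hy, fun e => hne (D.theta_trivial hθ e)⟩

/-- An induced linear character lies in `S(H₀ C')`. -/
theorem indLin_mem (D : Sect K H H0 U C W r q) {P : Subgroup L} (hC : C ≤ P) (hP : P ≤ U)
    (lam : ↥(H ⊔ P) →* ℂˣ) (h0 : ∀ y ∈ H0, ev lam y = 1) (hne : ∃ y ∈ H, ev lam y ≠ 1)
    (hstab : ∀ x ∈ K, @Moves L _ (H ⊔ P) H D.Hn le_sup_left lam lam x → x ∈ H ⊔ P) :
    indLin (H ⊔ P) lam ∈ secS K H H0 C := by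
  classical
  haveI := Fintype.ofFinite K
  haveI := D.Hn
  have hle := D.sup_le_K hP
  set N' := (H ⊔ P).subgroupOf K
  haveI := Fintype.ofFinite N'
  set lam' : N' →* ℂˣ := lam.comp (Subgroup.subgroupOfEquivOfLe hle).toMonoidHom
  have hH'N : H.subgroupOf K ≤ N' := fun y hy =>
    Subgroup.mem_subgroupOf.2 (Subgroup.mem_sup_left (Subgroup.mem_subgroupOf.1 hy))
  set θ := indLin N' lam' with hθdef
  have hθ : Cfsg.IsIrrCharacter K θ := by
    refine irr_indLin N' (H.subgroupOf K) hH'N fun x hm => Subgroup.mem_subgroupOf.2 ?_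
    exact hstab x x.2 fun y hy => hm ⟨y, D.HK hy⟩ (Subgroup.mem_subgroupOf.2 hy)
  have hX : ∀ a : K, (a : L) ∈ H0 ⊔ ⁅C, C⁆ → θ a = θ 1 := by
    intro a ha
    refine indLin_ker N' lam' fun x => ?_
    have hx : ((x⁻¹ * a * x : K) : L) ∈ H0 ⊔ ⁅C, C⁆ := by
      haveI := D.X_normal
      simpa using D.X_normal.conj_mem (a : L) ha (x : L)⁻¹
    have hx' : ((x⁻¹ * a * x : K) : L) ∈ H ⊔ P := sup_le_sup D.H0H (D.derC_le.trans hC) hx
    refine ⟨Subgroup.mem_subgroupOf.2 hx', ?_⟩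
    have := D.ev_X hC h0 hx
    rwa [ev_of_mem lam hx'] at this
  obtain ⟨y, hy, hyne⟩ := hne
  have hyne' : θ ⟨y, D.HK hy⟩ ≠ θ 1 := by
    intro e
    have hc := isCharacter_restrict N' (isCharacter_of_isIrr hθ)
    have hinner : Cfsg.classInner (fun n : N' => θ n) (fun n => (lam' n : ℂ)) ≠ 0 := by
      rw [← frobenius_reciprocity' N' _ (char_isClassFunction (isCharacter_of_isIrr hθ))]
      exact (classInner_isIrr_self hθ).trans_ne one_ne_zero
    have hyN : (⟨y, D.HK hy⟩ : K) ∈ N' := hH'N (Subgroup.mem_subgroupOf.2 hy)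
    have h1 := Constituent.constituent_apply_eq_one hc (isIrrCharacter_linear lam') hinner
      (g := ⟨_, hyN⟩) (by simpa using e)
    simp only [map_one, Units.val_one] at h1
    refine hyne ?_
    rw [ev_of_mem lam (Subgroup.mem_sup_left hy)]
    exact Units.ext h1
  have := D.mem_of_theta hθ hX hy hyne'
  rwa [show Cfsg.indFun K θ = indLin (H ⊔ P) lam from indFun_trans (H ⊔ P) K hle fun n => (lam n : ℂ)]
    at this

theorem nonempty (D : Sect K H H0 U C W r q) : (secS K H H0 C).Nonempty := by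
  classical
  haveI := Fintype.ofFinite K
  obtain ⟨hfin, hcard⟩ := D.dual_card
  have h2 : 1 < Nat.card (DualOn H H0) := hcard ▸ Nat.one_lt_pow D.qp.ne_zero D.rp.one_lt
  haveI : Nontrivial (DualOn H H0) := Finite.one_lt_card_iff_nontrivial.1 h2
  obtain ⟨χ, hχ⟩ := _root_.exists_ne (⟨1, fun x _ => rfl⟩ : DualOn H H0)
  obtain ⟨y, hy, hyne⟩ : ∃ y ∈ H, ev χ.1 y ≠ 1 := by
    by_contra hcon
    push Not at hcon
    exact hχ (Subtype.ext (ev_ext fun x hx => by rw [hcon x hx, ev_of_mem _ hx]; rfl))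
  obtain ⟨lam, hlam, -⟩ := D.exists_ext D.CU χ.1 (1 : C →* ℂˣ) fun c hc z hz => by
    simpa using D.C_fix χ (C.inv_mem hc) hz
  set N' := (H ⊔ C).subgroupOf K
  haveI := Fintype.ofFinite N'
  set lam' : N' →* ℂˣ := lam.comp (Subgroup.subgroupOfEquivOfLe (D.sup_le_K D.CU)).toMonoidHom
  have hchar : Cfsg.IsCharacter K (indLin N' lam') := indLin_isCharacter N' lam'
  have hyN : (⟨y, D.HK hy⟩ : K) ∈ N' := Subgroup.mem_subgroupOf.2 (Subgroup.mem_sup_left hy)
  obtain ⟨θ, hθ, hθne⟩ := Constituent.exists_constituent hchar (by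
    rw [indLin_one]; exact Nat.cast_ne_zero.2 Subgroup.index_ne_zero_of_finite)
  refine ⟨_, D.mem_of_theta hθ (fun a ha => ?_) (y := ⟨y, D.HK hy⟩) hy fun e => ?_⟩
  · refine Constituent.constituent_apply_eq_one hchar hθ hθne (indLin_ker N' lam' fun x => ?_)
    have hx : ((x⁻¹ * a * x : K) : L) ∈ H0 ⊔ ⁅C, C⁆ := by
      simpa using D.X_normal.conj_mem (a : L) ha (x : L)⁻¹
    refine ⟨Subgroup.mem_subgroupOf.2 (D.X_le hx), ?_⟩
    have := D.ev_X le_rfl (fun z hz => by rw [hlam z (D.H0H hz)]; exact ev_dual χ hz) hx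
    rwa [ev_of_mem lam (D.X_le hx)] at this
  · have hinner : Cfsg.classInner (fun n : N' => θ n) (fun n => (lam' n : ℂ)) ≠ 0 := by
      rw [indLin, frobenius_reciprocity N' _ (char_isClassFunction (isCharacter_of_isIrr hθ))]
        at hθne
      rw [classInner_conj_symm]
      exact fun h0 => hθne (by simpa using h0)
    have h1 := Constituent.constituent_apply_eq_one
      (isCharacter_restrict N' (isCharacter_of_isIrr hθ)) (isIrrCharacter_linear lam') hinner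
      (g := ⟨_, hyN⟩) (by simpa using e)
    simp only [map_one, Units.val_one] at h1
    refine hyne ?_
    rw [← hlam y hy, ev_of_mem lam (Subgroup.mem_sup_left hy)]
    exact Units.ext h1

/-- The degrees: at most `q u`, and divisible by `q a` when stabilisers lie in subgroups of index
divisible by `a`. -/
theorem degree_spec (D : Sect K H H0 U C W r q) {a : ℕ}
    (hT : ∀ χ : DualOn H H0, (∃ y ∈ H, ev χ.1 y ≠ 1) → ∃ T : Subgroup L, H ⊔ C ≤ T ∧ T ≤ K ∧
      a ∣ T.relIndex K ∧ ∀ u ∈ U, (∀ y ∈ H, ev χ.1 (u⁻¹ * y * u) = ev χ.1 y) → u ∈ T)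
    {φ : L → ℂ} (hφ : φ ∈ secS K H H0 C) :
    ∃ m : ℕ, φ 1 = ((q * m : ℕ) : ℂ) ∧ 0 < m ∧ m ≤ C.relIndex U ∧ a ∣ m := by
  classical
  haveI := Fintype.ofFinite K
  haveI := D.N_normal
  obtain ⟨θ, hθ, hX, ⟨y₀, hy₀, hne⟩, rfl⟩ := D.exists_rep hφ
  have hle := D.sup_le_K D.CU
  set N' := (H ⊔ C).subgroupOf K with hN'
  haveI : N'.Normal := Subgroup.normal_subgroupOf
  haveI := Fintype.ofFinite N'
  have hy₀N : y₀ ∈ N' := Subgroup.mem_subgroupOf.2 (Subgroup.mem_sup_left hy₀)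
  have hresc : Cfsg.IsCharacter N' (fun n : N' => θ n) :=
    isCharacter_restrict N' (isCharacter_of_isIrr hθ)
  obtain ⟨θ₀, hθ₀, hinner, hθ₀ne⟩ :=
    Constituent.exists_constituent_ne hresc (g := ⟨y₀, hy₀N⟩) (by simpa using hne)
  set X' := ((H0 ⊔ ⁅C, C⁆).subgroupOf K).subgroupOf N'
  haveI : ((H0 ⊔ ⁅C, C⁆).subgroupOf K).Normal := by
    haveI := D.X_normal; exact Subgroup.normal_subgroupOf
  haveI : X'.Normal := Subgroup.normal_subgroupOf
  have hθ₀X : ∀ z ∈ X', θ₀ z = θ₀ 1 := fun z hz =>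
    Constituent.constituent_apply_eq_one hresc hθ₀ hinner
      (hX _ (Subgroup.mem_subgroupOf.1 (Subgroup.mem_subgroupOf.1 hz)))
  obtain ⟨ψ, -, hψv, hψirr⟩ := exists_deflate_quotient X' (isCharacter_of_isIrr hθ₀) hθ₀X
  have hlin : θ₀ 1 = 1 := by
    rw [← hψv]
    refine irr_degree_one_of_comm (fun x z => ?_) (hψirr hθ₀)
    induction x using QuotientGroup.induction_on with | _ x => ?_
    induction z using QuotientGroup.induction_on with | _ z => ?_
    show ((x * z : N') : N' ⧸ X') = ((z * x : N') : N' ⧸ X')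
    rw [QuotientGroup.eq, Subgroup.mem_subgroupOf, Subgroup.mem_subgroupOf]
    have h := D.comm_mod (inv_mem (Subgroup.mem_subgroupOf.1 z.2))
      (inv_mem (Subgroup.mem_subgroupOf.1 x.2))
    simpa [mul_assoc] using h
  set lam : N' →* ℂˣ := linearOfDegreeOne (isCharacter_of_isIrr hθ₀) hlin
  have hlam : ∀ z, (lam z : ℂ) = θ₀ z := fun z => linearOfDegreeOne_apply _ _ z
  have hfun : (fun n : N' => (lam n : ℂ)) = θ₀ := funext hlam
  -- the degree is at most the index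
  obtain ⟨m, hmpos, hm⟩ := irr_one_pos hθ
  have hm_le : m ≤ C.relIndex U := by
    have hne' : Cfsg.classInner (indLin N' lam) θ ≠ 0 := by
      rw [indLin, frobenius_reciprocity N' _ (char_isClassFunction (isCharacter_of_isIrr hθ)),
        hfun, classInner_conj_symm]
      exact fun h0 => hinner (by simpa using h0)
    have h := irr_degree_le (indLin_isCharacter N' lam) hθ hne'
    rw [indLin_one, hm, Complex.natCast_re, Complex.natCast_re, Nat.cast_le] at h
    exact h.trans_eq (D.relIndex_sup D.CU)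
  -- the inertia subgroup
  let I : Subgroup K :=
    { carrier := {g | ∀ n : N', lam ⟨g * n * g⁻¹, Subgroup.Normal.conj_mem inferInstance _ n.2 g⟩ = lam n}
      one_mem' := fun n => congrArg lam (Subtype.ext (by simp))
      mul_mem' := fun {g g'} hg hg' n => by
        rw [← hg' n, ← hg ⟨g' * n * g'⁻¹, Subgroup.Normal.conj_mem inferInstance _ n.2 g'⟩]
        exact congrArg lam (Subtype.ext (by simp [mul_assoc]))
      inv_mem' := fun {g} hg n => by
        rw [← hg ⟨g⁻¹ * n * g⁻¹⁻¹, Subgroup.Normal.conj_mem inferInstance _ n.2 g⁻¹⟩]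
        exact congrArg lam (Subtype.ext (by simp [mul_assoc])) }
  have hNI : N' ≤ I := fun g hg n => by
    rw [show (⟨g * n * g⁻¹, Subgroup.Normal.conj_mem inferInstance _ n.2 g⟩ : N') =
      ⟨g, hg⟩ * n * ⟨g, hg⟩⁻¹ from rfl, map_mul, map_mul, map_inv, mul_inv_cancel_comm]
  haveI := Fintype.ofFinite I
  have hmemI : ∀ g : K, g ∈ I ↔ ∀ n : N',
      θ₀ ⟨g * n * g⁻¹, Subgroup.Normal.conj_mem inferInstance _ n.2 g⟩ = θ₀ n := fun g =>
    ⟨fun h n => by rw [← hlam, ← hlam, h n],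
      fun h n => Units.ext (by rw [hlam, hlam]; exact h n)⟩
  obtain ⟨ψ₀, hψ₀, hind, -⟩ := S0854.result N' θ₀ hθ₀ I hmemI hNI θ hθ hinner
  obtain ⟨k, -, hk⟩ := irr_one_pos hψ₀
  have hmk : m = I.index * k := by
    have h := congrFun hind 1
    rw [indFun_one, hk, hm] at h
    exact_mod_cast h.symm
  -- the character of `H`
  let ι : H →* N' := (Subgroup.subgroupOfEquivOfLe hle).symm.toMonoidHom.comp
    (Subgroup.inclusion le_sup_left)
  have hι : ∀ x : H, ((ι x : K) : L) = (x : L) := fun _ => rfl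
  let χ : DualOn H H0 := ⟨lam.comp ι, fun x hx => Units.ext (by
    rw [MonoidHom.comp_apply, Units.val_one, hlam, ← hlin]
    exact hθ₀X _ (Subgroup.mem_subgroupOf.2 (Subgroup.mem_subgroupOf.2 (Subgroup.mem_sup_left hx))))⟩
  have hχ : ∀ z : N', ((z : K) : L) ∈ H → ev χ.1 ((z : K) : L) = lam z := fun z hz => by
    rw [ev_of_mem _ hz]; exact congrArg lam (Subtype.ext (Subtype.ext rfl))
  obtain ⟨T, hNT, hTK, haT, hTu⟩ := hT χ ⟨y₀, hy₀, fun h1 => hθ₀ne (by
    rw [hlin, ← hlam ⟨y₀, hy₀N⟩, ← hχ ⟨y₀, hy₀N⟩ hy₀, h1, Units.val_one])⟩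
  have hIT : I ≤ T.subgroupOf K := by
    intro g hg
    rw [Subgroup.mem_subgroupOf]
    obtain ⟨h, hh, u, hu, e⟩ := D.prod g g.2
    rw [e]
    refine T.mul_mem (hNT (Subgroup.mem_sup_left hh)) (hTu u hu fun z hz => ?_)
    rw [← D.ev_conj_mul χ hh u hz, ← e]
    have hgi := I.inv_mem hg
    let zN : N' := ⟨⟨z, D.HK hz⟩, Subgroup.mem_subgroupOf.2 (Subgroup.mem_sup_left hz)⟩
    have h1 := hgi zN
    rw [← hχ zN hz, ← hχ _ (by simpa [zN] using D.conjH' (g : L) hz)] at h1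
    simpa [zN] using h1
  refine ⟨m, ?_, hmpos, hm_le, ?_⟩
  · rw [indFun_one, D.K_index, hm, Nat.cast_mul]
  · exact haT.trans ((Subgroup.index_dvd_of_le hIT).trans (hmk ▸ Dvd.intro k rfl))

end Sect

end Cfsg.Agent.OddChar.TypeP.CoreCoherence
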