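import Cfsg.Agent.OddChar.TypeP.CoreCoherence.Lin
import Mathlib

/-!
# The abstract configuration of Peterfalvi (9.8)-(9.11)

`L = (H ⋊ U) ⋊ W` with `W` of prime order `q`, a section `H / H₀` of order `r ^ q` and the centraliser
`C` in `U` of that section. Linear characters of `H` trivial on `H₀` are extended to the subgroups
`H ⊔ P`, `C ≤ P ≤ U`.
-/

set_option autoImplicit false
set_option linter.style.haveILetI false
set_option linter.unusedSectionVars false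

namespace Cfsg.Agent.OddChar.TypeP.CoreCoherence

open Cfsg.Agent.Characters
open scoped commutatorElement

universe u

variable {L : Type u} [Group L]

open scoped Classical in
/-- A homomorphism on a subgroup, extended by `1`. -/
noncomputable def ev {P : Subgroup L} (f : P →* ℂˣ) (x : L) : ℂˣ :=
  if h : x ∈ P then f ⟨x, h⟩ else 1

theorem ev_of_mem {P : Subgroup L} (f : P →* ℂˣ) {x : L} (h : x ∈ P) : ev f x = f ⟨x, h⟩ := dif_pos h

theorem ev_coe {P : Subgroup L} (f : P →* ℂˣ) (x : P) : ev f (x : L) = f x := ev_of_mem f x.2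

theorem ev_one {P : Subgroup L} (f : P →* ℂˣ) : ev f 1 = 1 := by
  rw [ev_of_mem f P.one_mem]; exact map_one f

theorem ev_mul {P : Subgroup L} (f : P →* ℂˣ) {x y : L} (hx : x ∈ P) (hy : y ∈ P) :
    ev f (x * y) = ev f x * ev f y := by
  rw [ev_of_mem f hx, ev_of_mem f hy, ev_of_mem f (P.mul_mem hx hy), ← map_mul]; rfl

theorem ev_inv {P : Subgroup L} (f : P →* ℂˣ) {x : L} (hx : x ∈ P) : ev f x⁻¹ = (ev f x)⁻¹ := by
  rw [ev_of_mem f hx, ev_of_mem f (P.inv_mem hx), ← map_inv]; rfl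

theorem ev_conj_self {P : Subgroup L} (f : P →* ℂˣ) {x y : L} (hx : x ∈ P) (hy : y ∈ P) :
    ev f (x⁻¹ * y * x) = ev f y := by
  rw [ev_mul f (P.mul_mem (P.inv_mem hx) hy) hx, ev_mul f (P.inv_mem hx) hy, ev_inv f hx,
    inv_mul_cancel_comm]

theorem ev_ext {P : Subgroup L} {f g : P →* ℂˣ} (h : ∀ x ∈ P, ev f x = ev g x) : f = g :=
  MonoidHom.ext fun x => by rw [← ev_coe f x, ← ev_coe g x]; exact h x x.2

theorem ev_inv_hom {P : Subgroup L} (f : P →* ℂˣ) (x : L) : ev f⁻¹ x = (ev f x)⁻¹ := by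
  by_cases h : x ∈ P
  · rw [ev_of_mem _ h, ev_of_mem _ h]; rfl
  · simp [ev, h]

/-- The homomorphisms on `P` trivial on `P ⊓ Q`. -/
abbrev DualOn (P Q : Subgroup L) := {f : P →* ℂˣ // ∀ x : P, (x : L) ∈ Q → f x = 1}

theorem ev_dual {P Q : Subgroup L} (f : DualOn P Q) {x : L} (hx : x ∈ Q) : ev f.1 x = 1 := by
  by_cases h : x ∈ P
  · rw [ev_of_mem _ h]; exact f.2 ⟨x, h⟩ hx
  · simp [ev, h]

theorem card_dualOn [Finite L] (P Q : Subgroup L) (hQ : (Q.subgroupOf P).Normal)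
    (hab : ∀ a ∈ P, ∀ b ∈ P, a * b * a⁻¹ * b⁻¹ ∈ Q) :
    Finite (DualOn P Q) ∧ Nat.card (DualOn P Q) = Q.relIndex P := by
  set N := Q.subgroupOf P
  haveI := hQ
  have e : DualOn P Q ≃ ((P ⧸ N) →* ℂˣ) :=
    { toFun := fun f => QuotientGroup.lift N f.1 fun x hx => f.2 x (Subgroup.mem_subgroupOf.1 hx)
      invFun := fun g => ⟨g.comp (QuotientGroup.mk' N), fun x hx => by
        rw [MonoidHom.comp_apply, QuotientGroup.mk'_apply,
          (QuotientGroup.eq_one_iff x).2 (Subgroup.mem_subgroupOf.2 hx), map_one]⟩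
      left_inv := fun f => Subtype.ext (MonoidHom.ext fun _ => rfl)
      right_inv := fun g => MonoidHom.ext fun x => QuotientGroup.induction_on x fun _ => rfl }
  have hc : commutator (P ⧸ N) = ⊥ := by
    rw [commutator_def, Subgroup.commutator_eq_bot_iff_le_centralizer]
    intro a _ b _
    induction a using QuotientGroup.induction_on with | _ a => ?_
    induction b using QuotientGroup.induction_on with | _ b => ?_
    show ((b * a : P) : P ⧸ N) = ((a * b : P) : P ⧸ N)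
    rw [QuotientGroup.eq, Subgroup.mem_subgroupOf]
    have := hab _ (P.inv_mem a.2) _ (P.inv_mem b.2)
    simpa [mul_assoc] using this
  have h1 : Nat.card ((P ⧸ N) →* ℂˣ) = Q.relIndex P := by
    rw [card_linear_hom, hc, Subgroup.index_bot]; rfl
  haveI : Finite ((P ⧸ N) →* ℂˣ) := Nat.finite_of_card_ne_zero (by
    rw [h1]; exact Subgroup.index_ne_zero_of_finite)
  exact ⟨Finite.of_equiv _ e.symm, (Nat.card_congr e).trans h1⟩

/-- The configuration. -/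
structure Sect (K H H0 U C W : Subgroup L) (r q : ℕ) : Prop where
  Kn : K.Normal
  Hn : H.Normal
  H0n : H0.Normal
  H0H : H0 ≤ H
  HK : H ≤ K
  UK : U ≤ K
  HU : H ⊓ U = ⊥
  prod : ∀ k ∈ K, ∃ h ∈ H, ∃ u ∈ U, k = h * u
  KW : K ⊓ W = ⊥
  top : ∀ x : L, ∃ k ∈ K, ∃ w ∈ W, x = k * w
  Wq : Nat.card W = q
  qp : q.Prime
  odd : Odd (Nat.card L)
  cop : (Nat.card H).Coprime (Nat.card U)
  fpf : ∀ w ∈ W, w ≠ 1 → ∀ u ∈ U, w * u = u * w → u = 1
  WU : ∀ w ∈ W, ∀ u ∈ U, w * u * w⁻¹ ∈ U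
  CU : C ≤ U
  derU : ∀ u ∈ U, ∀ v ∈ U, u * v * u⁻¹ * v⁻¹ ∈ C
  cent : ∀ u ∈ U, u ∈ C ↔ ∀ h ∈ H, u * h * u⁻¹ * h⁻¹ ∈ H0
  rp : r.Prime
  abel : ∀ a ∈ H, ∀ b ∈ H, a * b * a⁻¹ * b⁻¹ ∈ H0
  card : Nat.card H = Nat.card H0 * r ^ q

namespace Sect

variable {K H H0 U C W : Subgroup L} {r q : ℕ}

theorem conjH (D : Sect K H H0 U C W r q) (x : L) {h : L} (hh : h ∈ H) : x * h * x⁻¹ ∈ H :=
  D.Hn.conj_mem h hh x

theorem conjH' (D : Sect K H H0 U C W r q) (x : L) {h : L} (hh : h ∈ H) : x⁻¹ * h * x ∈ H := by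
  simpa using D.conjH x⁻¹ hh

theorem conjH0 (D : Sect K H H0 U C W r q) (x : L) {h : L} (hh : h ∈ H0) : x * h * x⁻¹ ∈ H0 :=
  D.H0n.conj_mem h hh x

theorem conjH0' (D : Sect K H H0 U C W r q) (x : L) {h : L} (hh : h ∈ H0) : x⁻¹ * h * x ∈ H0 := by
  simpa using D.conjH0 x⁻¹ hh

theorem WU' (D : Sect K H H0 U C W r q) {w : L} (hw : w ∈ W) {u : L} (hu : u ∈ U) :
    w⁻¹ * u * w ∈ U := by simpa using D.WU w⁻¹ (W.inv_mem hw) u hu

theorem cent' (D : Sect K H H0 U C W r q) {c : L} (hc : c ∈ C) {h : L} (hh : h ∈ H) :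
    c * h * c⁻¹ * h⁻¹ ∈ H0 := (D.cent c (D.CU hc)).1 hc h hh

theorem C_conjW (D : Sect K H H0 U C W r q) {w : L} (hw : w ∈ W) {c : L} (hc : c ∈ C) :
    w * c * w⁻¹ ∈ C := by
  refine (D.cent _ (D.WU w hw c (D.CU hc))).2 fun h hh => ?_
  have h1 := D.conjH0 w (D.cent' hc (D.conjH' w hh))
  simpa [mul_assoc] using h1

theorem conjP (D : Sect K H H0 U C W r q) {P : Subgroup L} (hC : C ≤ P) (hP : P ≤ U) {v : L}
    (hv : v ∈ U) {p : L} (hp : p ∈ P) : v * p * v⁻¹ ∈ P := by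
  simpa using P.mul_mem (hC (D.derU v hv p (hP hp))) hp

theorem conjP' (D : Sect K H H0 U C W r q) {P : Subgroup L} (hC : C ≤ P) (hP : P ≤ U) {v : L}
    (hv : v ∈ U) {p : L} (hp : p ∈ P) : v⁻¹ * p * v ∈ P := by
  simpa using D.conjP hC hP (U.inv_mem hv) hp

theorem mem_sup (D : Sect K H H0 U C W r q) {P : Subgroup L} {x : L} :
    x ∈ H ⊔ P ↔ ∃ h ∈ H, ∃ p ∈ P, x = h * p := by
  haveI := D.Hn
  rw [Subgroup.mem_sup_of_normal_left]
  simp only [eq_comm]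

theorem mul_mem_sup (D : Sect K H H0 U C W r q) {P : Subgroup L} {h p : L} (hh : h ∈ H)
    (hp : p ∈ P) : h * p ∈ H ⊔ P := D.mem_sup.2 ⟨h, hh, p, hp, rfl⟩

theorem unique (D : Sect K H H0 U C W r q) {h h' p p' : L} (hh : h ∈ H) (hh' : h' ∈ H) (hp : p ∈ U)
    (hp' : p' ∈ U) (e : h * p = h' * p') : h = h' ∧ p = p' := by
  have e' : h'⁻¹ * h = p' * p⁻¹ := by
    rw [inv_mul_eq_iff_eq_mul, ← mul_assoc, ← e, mul_inv_cancel_right]
  have h1 : h'⁻¹ * h ∈ H ⊓ U :=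
    ⟨H.mul_mem (H.inv_mem hh') hh, e' ▸ U.mul_mem hp' (U.inv_mem hp)⟩
  rw [D.HU, Subgroup.mem_bot] at h1
  refine ⟨(inv_mul_eq_one.1 h1).symm, ?_⟩
  rw [e'] at h1
  exact (mul_inv_eq_one.1 h1).symm

theorem sup_inf_U (D : Sect K H H0 U C W r q) {P : Subgroup L} (hP : P ≤ U) {x : L}
    (hx : x ∈ H ⊔ P) (hxU : x ∈ U) : x ∈ P := by
  obtain ⟨h, hh, p, hp, e⟩ := D.mem_sup.1 hx
  have := D.unique H.one_mem hh hxU (hP hp) (by rw [one_mul, e])
  rw [this.2]; exact hp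

theorem sup_le_K (D : Sect K H H0 U C W r q) {P : Subgroup L} (hP : P ≤ U) : H ⊔ P ≤ K :=
  sup_le D.HK (hP.trans D.UK)

theorem K_eq (D : Sect K H H0 U C W r q) : H ⊔ U = K :=
  le_antisymm (D.sup_le_K le_rfl) fun k hk => D.mem_sup.2 (D.prod k hk)

theorem K_conj (D : Sect K H H0 U C W r q) {P : Subgroup L} (hC : C ≤ P) (hP : P ≤ U) {k : L}
    (hk : k ∈ K) {x : L} (hx : x ∈ H ⊔ P) : k * x * k⁻¹ ∈ H ⊔ P := by
  obtain ⟨h, hh, p, hp, rfl⟩ := D.prod k hk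
  have h1 : p * x * p⁻¹ ∈ H ⊔ P := by
    obtain ⟨h', hh', p', hp', rfl⟩ := D.mem_sup.1 hx
    rw [show p * (h' * p') * p⁻¹ = (p * h' * p⁻¹) * (p * p' * p⁻¹) by group]
    exact D.mul_mem_sup (D.conjH p hh') (D.conjP hC hP hp hp')
  have h2 : h ∈ H ⊔ P := le_sup_left (a := H) hh
  simpa [mul_assoc] using mul_mem (mul_mem h2 h1) (inv_mem h2)

theorem K_conj' (D : Sect K H H0 U C W r q) {P : Subgroup L} (hC : C ≤ P) (hP : P ≤ U) {k : L}
    (hk : k ∈ K) {x : L} (hx : x ∈ H ⊔ P) : k⁻¹ * x * k ∈ H ⊔ P := by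
  simpa using D.K_conj hC hP (K.inv_mem hk) hx

theorem N_normal (D : Sect K H H0 U C W r q) : (H ⊔ C).Normal := by
  refine ⟨fun x hx y => ?_⟩
  obtain ⟨k, hk, w, hw, rfl⟩ := D.top y
  have h1 : w * x * w⁻¹ ∈ H ⊔ C := by
    obtain ⟨h, hh, c, hc, rfl⟩ := D.mem_sup.1 hx
    rw [show w * (h * c) * w⁻¹ = (w * h * w⁻¹) * (w * c * w⁻¹) by group]
    exact D.mul_mem_sup (D.conjH w hh) (D.C_conjW hw hc)
  simpa [mul_assoc] using D.K_conj le_rfl D.CU hk h1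

theorem derC_le (_D : Sect K H H0 U C W r q) : ⁅C, C⁆ ≤ C := Subgroup.commutator_le_self C

theorem derC_conj (D : Sect K H H0 U C W r q) {v : L} (hv : ∀ c ∈ C, v * c * v⁻¹ ∈ C) {x : L}
    (hx : x ∈ ⁅C, C⁆) : v * x * v⁻¹ ∈ ⁅C, C⁆ := by
  have := D.derC_le
  have h1 : ⁅C, C⁆.map (MulAut.conj v).toMonoidHom ≤ ⁅C, C⁆ := by
    rw [Subgroup.map_commutator]
    refine Subgroup.commutator_mono ?_ ?_ <;>
      · rintro _ ⟨c, hc, rfl⟩
        exact hv c hc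
  exact h1 ⟨x, hx, rfl⟩

theorem mem_X (D : Sect K H H0 U C W r q) {x : L} :
    x ∈ H0 ⊔ ⁅C, C⁆ ↔ ∃ h ∈ H0, ∃ c ∈ ⁅C, C⁆, x = h * c := by
  haveI := D.H0n
  rw [Subgroup.mem_sup_of_normal_left]
  simp only [eq_comm]

theorem X_le (D : Sect K H H0 U C W r q) : H0 ⊔ ⁅C, C⁆ ≤ H ⊔ C :=
  sup_le_sup D.H0H D.derC_le

theorem X_normal (D : Sect K H H0 U C W r q) : (H0 ⊔ ⁅C, C⁆).Normal := by
  refine ⟨fun x hx y => ?_⟩
  obtain ⟨k, hk, w, hw, rfl⟩ := D.top y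
  obtain ⟨h, hh, u, hu, rfl⟩ := D.prod k hk
  obtain ⟨h0, hh0, c, hc, rfl⟩ := D.mem_X.1 hx
  have hc2 : u * (w * c * w⁻¹) * u⁻¹ ∈ ⁅C, C⁆ :=
    D.derC_conj (fun e he => D.conjP le_rfl D.CU hu he) (D.derC_conj (fun e he => D.C_conjW hw he) hc)
  set c' := u * (w * c * w⁻¹) * u⁻¹
  have h3 : h * c' * h⁻¹ * c'⁻¹ ∈ H0 := by
    have := H0.inv_mem (D.cent' (D.derC_le hc2) hh)
    simpa [mul_assoc] using this
  rw [show h * u * w * (h0 * c) * (h * u * w)⁻¹ =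
    (h * u * w) * h0 * (h * u * w)⁻¹ * (h * c' * h⁻¹ * c'⁻¹) * c' by simp [c', mul_assoc]]
  exact mul_mem (mul_mem (Subgroup.mem_sup_left (D.conjH0 _ hh0)) (Subgroup.mem_sup_left h3))
    (Subgroup.mem_sup_right hc2)

/-- `(H C)/X` is abelian. -/
theorem comm_mod (D : Sect K H H0 U C W r q) {a b : L} (ha : a ∈ H ⊔ C) (hb : b ∈ H ⊔ C) :
    a * b * a⁻¹ * b⁻¹ ∈ H0 ⊔ ⁅C, C⁆ := by
  set X := H0 ⊔ ⁅C, C⁆ with hX
  haveI := D.X_normal
  obtain ⟨h, hh, c, hc, rfl⟩ := D.mem_sup.1 ha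
  obtain ⟨h', hh', c', hc', rfl⟩ := D.mem_sup.1 hb
  let f := QuotientGroup.mk' X
  have hcomm : ∀ x y : L, x * y * x⁻¹ * y⁻¹ ∈ X → Commute (f x) (f y) := by
    intro x y hxy
    have h1 : f (x * y * x⁻¹ * y⁻¹) = 1 := (QuotientGroup.eq_one_iff _).2 hxy
    simpa [Commute, SemiconjBy, mul_inv_eq_iff_eq_mul] using h1
  have h1 : Commute (f (h * c)) (f (h' * c')) := by
    rw [map_mul, map_mul]
    refine Commute.mul_left (Commute.mul_right ?_ ?_) (Commute.mul_right ?_ ?_)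
    · exact hcomm _ _ (Subgroup.mem_sup_left (D.abel h hh h' hh'))
    · exact (hcomm _ _ (Subgroup.mem_sup_left (D.cent' hc' hh))).symm
    · exact hcomm _ _ (Subgroup.mem_sup_left (D.cent' hc hh'))
    · exact hcomm _ _ (Subgroup.mem_sup_right (Subgroup.commutator_mem_commutator hc hc'))
  refine (QuotientGroup.eq_one_iff _).1 ?_
  show f (h * c * (h' * c') * (h * c)⁻¹ * (h' * c')⁻¹) = 1
  rw [map_mul, map_mul, map_mul, h1.eq, map_inv, map_inv, mul_inv_cancel_right, mul_inv_cancel]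

theorem card_sup [Finite L] (D : Sect K H H0 U C W r q) {P : Subgroup L} (hP : P ≤ U) :
    Nat.card ↥(H ⊔ P) = Nat.card H * Nat.card P := by
  rw [← Nat.card_prod]
  refine (Nat.card_eq_of_bijective (fun hp : H × P =>
    (⟨(hp.1 : L) * hp.2, D.mul_mem_sup hp.1.2 hp.2.2⟩ : ↥(H ⊔ P))) ⟨?_, ?_⟩).symm
  · intro a b e
    have h := D.unique a.1.2 b.1.2 (hP a.2.2) (hP b.2.2) (congrArg Subtype.val e)
    exact Prod.ext (Subtype.ext h.1) (Subtype.ext h.2)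
  · intro x
    obtain ⟨h, hh, p, hp, e⟩ := D.mem_sup.1 x.2
    exact ⟨(⟨h, hh⟩, ⟨p, hp⟩), Subtype.ext e.symm⟩

theorem relIndex_sup [Finite L] (D : Sect K H H0 U C W r q) {P : Subgroup L} (hP : P ≤ U) :
    (H ⊔ P).relIndex K = P.relIndex U := by
  have h1 := Subgroup.card_mul_index ((H ⊔ P).subgroupOf K)
  rw [Nat.card_congr (Subgroup.subgroupOfEquivOfLe (D.sup_le_K hP)).toEquiv, D.card_sup hP] at h1
  have h2 := Subgroup.card_mul_index (P.subgroupOf U)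
  rw [Nat.card_congr (Subgroup.subgroupOfEquivOfLe hP).toEquiv] at h2
  have h3 : Nat.card K = Nat.card H * Nat.card U := by rw [← D.K_eq]; exact D.card_sup le_rfl
  rw [h3, ← h2, mul_assoc] at h1
  exact Nat.eq_of_mul_eq_mul_left Nat.card_pos (Nat.eq_of_mul_eq_mul_left Nat.card_pos h1)

theorem card_L [Finite L] (D : Sect K H H0 U C W r q) : Nat.card L = q * Nat.card K := by
  rw [← D.Wq, mul_comm, ← Nat.card_prod]
  refine (Nat.card_eq_of_bijective (fun kw : K × W => (kw.1 : L) * kw.2) ⟨?_, ?_⟩).symm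
  · intro a b e
    have e' : (b.1 : L)⁻¹ * a.1 = b.2 * (a.2 : L)⁻¹ := by
      rw [inv_mul_eq_iff_eq_mul, ← mul_assoc]
      exact eq_mul_inv_of_mul_eq e
    have h1 : (b.1 : L)⁻¹ * a.1 ∈ K ⊓ W :=
      ⟨K.mul_mem (K.inv_mem b.1.2) a.1.2, e' ▸ W.mul_mem b.2.2 (W.inv_mem a.2.2)⟩
    rw [D.KW, Subgroup.mem_bot] at h1
    refine Prod.ext (Subtype.ext (inv_mul_eq_one.1 h1).symm) (Subtype.ext ?_)
    rw [e'] at h1
    exact (mul_inv_eq_one.1 h1).symm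
  · intro x
    obtain ⟨k, hk, w, hw, e⟩ := D.top x
    exact ⟨(⟨k, hk⟩, ⟨w, hw⟩), e.symm⟩

theorem K_index [Finite L] (D : Sect K H H0 U C W r q) : K.index = q := by
  have h := K.card_mul_index
  rw [D.card_L, mul_comm q] at h
  exact Nat.eq_of_mul_eq_mul_left Nat.card_pos h

theorem index_sup [Finite L] (D : Sect K H H0 U C W r q) {P : Subgroup L} (hP : P ≤ U) :
    (H ⊔ P).index = q * P.relIndex U := by
  rw [← Subgroup.relIndex_mul_index (D.sup_le_K hP), D.relIndex_sup hP, D.K_index, mul_comm]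

theorem dual_card [Finite L] (D : Sect K H H0 U C W r q) :
    Finite (DualOn H H0) ∧ Nat.card (DualOn H H0) = r ^ q := by
  haveI := D.H0n
  obtain ⟨h1, h2⟩ := card_dualOn H H0 inferInstance D.abel
  refine ⟨h1, h2.trans ?_⟩
  have h := Subgroup.card_mul_index (H0.subgroupOf H)
  rw [Nat.card_congr (Subgroup.subgroupOfEquivOfLe D.H0H).toEquiv, D.card] at h
  exact Nat.eq_of_mul_eq_mul_left Nat.card_pos h

/-- Conjugation by an element of `C` fixes every character of `H` trivial on `H₀`. -/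
theorem C_fix (D : Sect K H H0 U C W r q) (χ : DualOn H H0) {c : L} (hc : c ∈ C) {y : L}
    (hy : y ∈ H) : ev χ.1 (c⁻¹ * y * c) = ev χ.1 y := by
  have h1 := D.cent' (C.inv_mem hc) hy
  rw [inv_inv] at h1
  rw [show c⁻¹ * y * c = c⁻¹ * y * c * y⁻¹ * y by group, ev_mul _ (D.H0H h1) hy, ev_dual χ h1, one_mul]

/-- Conjugation by `h u` acts as that by `u`. -/
theorem ev_conj_mul (D : Sect K H H0 U C W r q) (χ : DualOn H H0) {h : L} (hh : h ∈ H) (u : L)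
    {y : L} (hy : y ∈ H) : ev χ.1 ((h * u)⁻¹ * y * (h * u)) = ev χ.1 (u⁻¹ * y * u) := by
  rw [show (h * u)⁻¹ * y * (h * u) = (u⁻¹ * h * u)⁻¹ * (u⁻¹ * y * u) * (u⁻¹ * h * u) by group,
    ev_conj_self _ (D.conjH' u hh) (D.conjH' u hy)]

/-- A character of `H` fixed by `P` extends to `H ⊔ P` with given values on `P`. -/
theorem exists_ext (D : Sect K H H0 U C W r q) {P : Subgroup L} (hP : P ≤ U) (χ : H →* ℂˣ)
    (ξ : P →* ℂˣ) (hinv : ∀ p ∈ P, ∀ y ∈ H, ev χ (p * y * p⁻¹) = ev χ y) :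
    ∃ lam : ↥(H ⊔ P) →* ℂˣ, (∀ y ∈ H, ev lam y = ev χ y) ∧ ∀ p ∈ P, ev lam p = ev ξ p := by
  choose h hh p hp he using fun x : ↥(H ⊔ P) => D.mem_sup.1 x.2
  have key : ∀ x : ↥(H ⊔ P), ∀ a ∈ H, ∀ b ∈ P, (x : L) = a * b → h x = a ∧ p x = b :=
    fun x a ha b hb e => D.unique (hh x) ha (hP (hp x)) (hP hb) ((he x).symm.trans e)
  let lam : ↥(H ⊔ P) →* ℂˣ :=
    { toFun := fun x => ev χ (h x) * ev ξ (p x)
      map_one' := by
        obtain ⟨e1, e2⟩ := key 1 1 H.one_mem 1 P.one_mem (by simp)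
        simp only [e1, e2, ev_one, mul_one]
      map_mul' := fun x y => by
        obtain ⟨e1, e2⟩ := key (x * y) (h x * (p x * h y * (p x)⁻¹))
          (H.mul_mem (hh x) (D.conjH _ (hh y))) (p x * p y) (P.mul_mem (hp x) (hp y))
          (by rw [Subgroup.coe_mul, he x, he y]; group)
        simp only [e1, e2, ev_mul χ (hh x) (D.conjH (p x) (hh y)), ev_mul ξ (hp x) (hp y),
          hinv _ (hp x) _ (hh y)]
        exact mul_mul_mul_comm _ _ _ _ }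
  refine ⟨lam, fun y hy => ?_, fun b hb => ?_⟩
  · obtain ⟨e1, e2⟩ := key ⟨y, Subgroup.mem_sup_left hy⟩ y hy 1 P.one_mem (mul_one y).symm
    rw [ev_of_mem lam (Subgroup.mem_sup_left hy)]
    show ev χ (h _) * ev ξ (p _) = _
    rw [e1, e2, ev_one, mul_one]
  · obtain ⟨e1, e2⟩ := key ⟨b, Subgroup.mem_sup_right hb⟩ 1 H.one_mem b hb (one_mul b).symm
    rw [ev_of_mem lam (Subgroup.mem_sup_right hb)]
    show ev χ (h _) * ev ξ (p _) = _
    rw [e1, e2, ev_one, one_mul]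

/-- Homomorphisms on `H ⊔ C`-containing subgroups trivial on `H₀` are trivial on `X`. -/
theorem ev_X (D : Sect K H H0 U C W r q) {P : Subgroup L} (hC : C ≤ P) {lam : ↥(H ⊔ P) →* ℂˣ}
    (h0 : ∀ y ∈ H0, ev lam y = 1) {x : L} (hx : x ∈ H0 ⊔ ⁅C, C⁆) : ev lam x = 1 := by
  obtain ⟨h, hh, c, hc, rfl⟩ := D.mem_X.1 hx
  have hmemH : h ∈ H ⊔ P := Subgroup.mem_sup_left (D.H0H hh)
  have hmemc : c ∈ H ⊔ P := Subgroup.mem_sup_right (hC (D.derC_le hc))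
  rw [ev_mul _ hmemH hmemc, h0 h hh, one_mul, ev_of_mem _ hmemc]
  have hle : ⁅C, C⁆ ≤ lam.ker.map (H ⊔ P).subtype := by
    refine Subgroup.commutator_le.2 fun a ha b hb => ?_
    refine ⟨⁅(⟨a, Subgroup.mem_sup_right (hC ha)⟩ : ↥(H ⊔ P)),
      ⟨b, Subgroup.mem_sup_right (hC hb)⟩⁆, ?_, rfl⟩
    rw [SetLike.mem_coe, MonoidHom.mem_ker, map_commutatorElement]
    exact commutatorElement_eq_one_iff_mul_comm.2 (mul_comm _ _)
  obtain ⟨z, hz, e⟩ := hle hc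
  rw [show (⟨c, hmemc⟩ : ↥(H ⊔ P)) = z from Subtype.ext e.symm]
  exact hz

end Sect

end Cfsg.Agent.OddChar.TypeP.CoreCoherence
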