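import Cfsg.Agent.OddChar.TypeP.CoreCoherence.Members
import Mathlib

/-!
# The split case: two families of irreducible induced linear characters

`H/H₀` is a sum of `q` lines `H₁ ^ w`. Characters of `H` supported on one line give irreducible
characters of degree `q a`, characters with full support mostly give irreducible characters of
degree `q u` (Peterfalvi 9.8, 9.9, and the estimate replacing 9.10 in (9.11)).
-/

set_option autoImplicit false
set_option linter.style.haveILetI false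
set_option linter.unusedSectionVars false

namespace Cfsg.Agent.OddChar.TypeP.CoreCoherence

open Cfsg.Agent.Characters
open scoped ComplexConjugate

universe u

variable {L : Type u} [Group L]

/-- The split configuration. -/
structure Split (K H H0 U C W H1 C1 : Subgroup L) (r q a : ℕ) : Prop where
  sect : Sect K H H0 U C W r q
  le0 : H0 ≤ H1
  le : H1 ≤ H
  norm : ∀ u ∈ U, ∀ y ∈ H1, u * y * u⁻¹ ∈ H1
  line_card : H0.relIndex H1 = r
  span : ∀ P : Subgroup L, (∀ w ∈ W, ∀ y ∈ H1, w * y * w⁻¹ ∈ P) → H ≤ P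
  C1U : C1 ≤ U
  cent1 : ∀ u ∈ U, u ∈ C1 ↔ ∀ y ∈ H1, u * y * u⁻¹ * y⁻¹ ∈ H0
  index : C1.relIndex U = a
  one_lt : 1 < a
  dvd : a ∣ r - 1
  centEq : ∀ u ∈ U, u ∈ C ↔ ∀ w ∈ W, w * u * w⁻¹ ∈ C1
  uBound : C.relIndex U ∣ a ^ (q - 1)

/-- A finite set of irreducible members of `S(H₀ C')` of one degree, closed under conjugation and
vanishing off the conjugates of `N`. -/
def GoodSet [Fintype L] (K H H0 C N : Subgroup L) (d : ℕ) (s : Finset (L → ℂ)) : Prop :=
  ∀ φ ∈ s, Cfsg.IsIrrCharacter L φ ∧ φ 1 = (d : ℂ) ∧ φ ∈ secS K H H0 C ∧ Cfsg.conjFun φ ∈ s ∧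
    ∀ g : L, (∀ x : L, x⁻¹ * g * x ∉ N) → φ g = 0

/-- Counting the images of a family of linear characters. -/
theorem card_le_image_mul [Fintype L] {ι : Type*} [Fintype ι] (N P H : Subgroup L) [Fintype N]
    [DecidableEq (L → ℂ)] [H.Normal] (hHN : H ≤ N) (lam : ι → N →* ℂˣ)
    (hinj : Function.Injective lam) (hPN : ∀ x ∈ P, ∀ n ∈ N, x⁻¹ * n * x ∈ N)
    (hirr : ∀ i, Cfsg.IsIrrCharacter L (indLin N (lam i)))
    (hmv : ∀ i j x, Moves N H hHN (lam i) (lam j) x → x ∈ P) :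
    Nat.card ι ≤ (Finset.univ.image fun i => indLin N (lam i)).card * N.relIndex P := by
  classical
  rw [Nat.card_eq_fintype_card, ← Finset.card_univ, mul_comm]
  refine Finset.card_le_mul_card_image _ _ fun b hb => ?_
  obtain ⟨i, -, rfl⟩ := Finset.mem_image.1 hb
  have hex : ∀ j : {j : ι // indLin N (lam j) = indLin N (lam i)}, ∃ (x : L) (hx : x ∈ P),
      ∀ n : N, lam j ⟨x⁻¹ * n * x, hPN x hx n n.2⟩ = lam i n := fun j =>
    conj_of_indLin_eq N H hHN (hirr i) j.2.symm P (hmv i j.1) hPN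
  choose x hx hconj using hex
  haveI := Fintype.ofFinite (P ⧸ N.subgroupOf P)
  let F : {j : ι // indLin N (lam j) = indLin N (lam i)} → P ⧸ N.subgroupOf P :=
    fun j => QuotientGroup.mk (⟨x j, hx j⟩ : P)
  have hF : Function.Injective F := by
    intro j j' e
    obtain ⟨hm⟩ : (x j)⁻¹ * x j' ∈ N ∧ True := ⟨Subgroup.mem_subgroupOf.1 (QuotientGroup.eq.1 e), trivial⟩
    refine Subtype.ext (hinj (MonoidHom.ext fun m => ?_))
    set d : N := ⟨_, hm⟩
    set n : L := x j * (m : L) * (x j)⁻¹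
    have hn : n ∈ N := by
      have h0 : ∀ y ∈ N, (x j)⁻¹ * y * x j ∈ N := hPN _ (hx j)
      simpa [n] using hPN _ (P.inv_mem (hx j)) _ m.2
    have h1 := hconj j ⟨n, hn⟩
    have h2 := hconj j' ⟨n, hn⟩
    have e1 : (⟨(x j)⁻¹ * n * x j, hPN _ (hx j) n hn⟩ : N) = m := Subtype.ext (by simp [n, mul_assoc])
    have e2 : (⟨(x j')⁻¹ * n * x j', hPN _ (hx j') n hn⟩ : N) = d⁻¹ * m * d :=
      Subtype.ext (by simp [n, d, mul_assoc])
    rw [e1] at h1
    rw [e2, map_mul, map_mul, map_inv, inv_mul_cancel_comm] at h2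
    rw [h1, h2]
  have := Fintype.card_le_of_injective F hF
  rw [Fintype.card_subtype] at this
  exact this.trans_eq (by rw [← Nat.card_eq_fintype_card]; rfl)

namespace Split

variable {K H H0 U C W H1 C1 : Subgroup L} {r q a : ℕ}

theorem C_le (S : Split K H H0 U C W H1 C1 r q a) : C ≤ C1 := fun c hc => by
  simpa using (S.centEq c (S.sect.CU hc)).1 hc 1 W.one_mem

theorem norm' (S : Split K H H0 U C W H1 C1 r q a) {u : L} (hu : u ∈ U) {y : L} (hy : y ∈ H1) :
    u⁻¹ * y * u ∈ H1 := by simpa using S.norm u⁻¹ (U.inv_mem hu) y hy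

theorem u_eq (S : Split K H H0 U C W H1 C1 r q a) : C.relIndex C1 * a = C.relIndex U := by
  rw [← S.index]; exact Subgroup.relIndex_mul_relIndex C C1 U S.C_le S.C1U

theorem r_odd [Finite L] (S : Split K H H0 U C W H1 C1 r q a) : Odd r := by
  refine S.sect.odd.of_dvd_nat (dvd_trans ?_ (Subgroup.card_subgroup_dvd_card H))
  rw [S.sect.card]
  exact dvd_mul_of_dvd_right (dvd_pow_self r S.sect.qp.ne_zero) _

theorem a_odd [Finite L] (S : Split K H H0 U C W H1 C1 r q a) : Odd a := by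
  refine S.sect.odd.of_dvd_nat (dvd_trans ?_ (Subgroup.card_subgroup_dvd_card U))
  rw [← S.index]
  exact Subgroup.relIndex_dvd_card C1 U

theorem two_a_le [Finite L] (S : Split K H H0 U C W H1 C1 r q a) : 2 * a ≤ r - 1 := by
  have h1 := S.sect.rp.one_lt
  obtain ⟨k, hk⟩ := S.r_odd
  refine Nat.le_of_dvd (by omega) (Nat.Coprime.mul_dvd_of_dvd_of_dvd ?_ ⟨k, by omega⟩ S.dvd)
  exact (Nat.prime_two.coprime_iff_not_dvd).2
    (fun h => Nat.not_even_iff_odd.2 S.a_odd (even_iff_two_dvd.2 h))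

theorem q_three [Finite L] (S : Split K H H0 U C W H1 C1 r q a) : 3 ≤ q := by
  have h1 := S.sect.qp.two_le
  have h2 : Odd q := S.sect.odd.of_dvd_nat (by rw [S.sect.card_L]; exact dvd_mul_right _ _)
  obtain ⟨k, hk⟩ := h2
  omega

/-- The restriction of a character to the line `H₁ ^ w`. -/
noncomputable def line (S : Split K H H0 U C W H1 C1 r q a) (χ : DualOn H H0) (w : W) :
    DualOn H1 H0 :=
  ⟨{ toFun := fun y => ev χ.1 ((w : L) * y * (w : L)⁻¹)
     map_one' := by simp [ev_one]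
     map_mul' := fun y z => by
       rw [← ev_mul χ.1 (S.sect.conjH _ (S.le y.2)) (S.sect.conjH _ (S.le z.2))]
       simp [mul_assoc] },
    fun y hy => ev_dual χ (S.sect.conjH0 _ hy)⟩

theorem line_ev (S : Split K H H0 U C W H1 C1 r q a) (χ : DualOn H H0) (w : W) {y : L}
    (hy : y ∈ H1) : ev (S.line χ w).1 y = ev χ.1 ((w : L) * y * (w : L)⁻¹) := by
  rw [ev_of_mem _ hy]; rfl

theorem line_injective (S : Split K H H0 U C W H1 C1 r q a) : Function.Injective S.line := by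
  intro χ χ' e
  refine Subtype.ext (ev_ext fun x hx => ?_)
  have hle : H ≤ (χ.1.eqLocus χ'.1).map H.subtype := S.span _ fun w hw y hy => by
    refine ⟨⟨w * y * w⁻¹, S.sect.conjH w (S.le hy)⟩, ?_, rfl⟩
    show χ.1 _ = χ'.1 _
    rw [← ev_of_mem, ← ev_of_mem]
    have := congrFun e ⟨w, hw⟩
    rw [← S.line_ev χ ⟨w, hw⟩ hy, ← S.line_ev χ' ⟨w, hw⟩ hy, this]
  obtain ⟨z, hz, rfl⟩ := hle hx
  rw [Subgroup.coe_subtype, ev_coe, ev_coe]; exact hz

theorem card_dual1 [Finite L] (S : Split K H H0 U C W H1 C1 r q a) :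
    Finite (DualOn H1 H0) ∧ Nat.card (DualOn H1 H0) = r := by
  haveI := S.sect.H0n
  obtain ⟨h1, h2⟩ := card_dualOn H1 H0 inferInstance fun x hx y hy =>
    S.sect.abel x (S.le hx) y (S.le hy)
  exact ⟨h1, h2.trans S.line_card⟩

theorem line_surjective [Finite L] (S : Split K H H0 U C W H1 C1 r q a) :
    Function.Surjective S.line := by
  classical
  obtain ⟨h1, h2⟩ := S.sect.dual_card
  obtain ⟨h3, h4⟩ := S.card_dual1
  haveI := Fintype.ofFinite W
  haveI : Finite (W → DualOn H1 H0) := Pi.finite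
  refine ((Nat.bijective_iff_injective_and_card _).2 ⟨S.line_injective, ?_⟩).2
  rw [Nat.card_fun, h2, h4, S.sect.Wq]

/-- If `u` fixes `χ` and `χ` is nontrivial on the line of `w`, then `w⁻¹ u w ∈ C₁`. -/
theorem fix_line (S : Split K H H0 U C W H1 C1 r q a) (χ : DualOn H H0) {w : L} (hw : w ∈ W)
    {u : L} (hu : u ∈ U) (hfix : ∀ y ∈ H, ev χ.1 (u⁻¹ * y * u) = ev χ.1 y) {y₀ : L} (hy₀ : y₀ ∈ H1)
    (hne : ev χ.1 (w * y₀ * w⁻¹) ≠ 1) : w⁻¹ * u * w ∈ C1 := by
  classical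
  set f := S.line χ ⟨w, hw⟩
  set P := f.1.ker.map H1.subtype
  have hP1 : P ≤ H1 := Subgroup.map_subtype_le _
  have h0P : H0 ≤ P := fun z hz => ⟨⟨z, S.le0 hz⟩, f.2 ⟨z, S.le0 hz⟩ hz, rfl⟩
  have hP : P ≤ H0 := by
    have h := Subgroup.relIndex_mul_relIndex H0 P H1 h0P hP1
    rw [S.line_card] at h
    refine Subgroup.relIndex_eq_one.1 (((Nat.prime_mul_iff.1 (h ▸ S.sect.rp)).resolve_left ?_).2)
    rintro ⟨-, h1⟩
    obtain ⟨z, hz, e⟩ := Subgroup.relIndex_eq_one.1 h1 hy₀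
    refine hne ?_
    rw [← S.line_ev χ ⟨w, hw⟩ hy₀, ← e, Subgroup.coe_subtype, ev_coe]
    exact hz
  have hu' := S.sect.WU' hw hu
  suffices h : (w⁻¹ * u * w)⁻¹ ∈ C1 by simpa using C1.inv_mem h
  refine (S.cent1 _ (U.inv_mem hu')).2 fun y hy => hP ?_
  have hmem : (w⁻¹ * u * w)⁻¹ * y * (w⁻¹ * u * w)⁻¹⁻¹ * y⁻¹ ∈ H1 :=
    H1.mul_mem (S.norm _ (U.inv_mem hu') y hy) (H1.inv_mem hy)
  refine ⟨⟨_, hmem⟩, ?_, rfl⟩
  show ev χ.1 (w * ((w⁻¹ * u * w)⁻¹ * y * (w⁻¹ * u * w)⁻¹⁻¹ * y⁻¹) * w⁻¹) = 1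
  have hy' := S.sect.conjH w (S.le hy)
  rw [show w * ((w⁻¹ * u * w)⁻¹ * y * (w⁻¹ * u * w)⁻¹⁻¹ * y⁻¹) * w⁻¹ =
      (u⁻¹ * (w * y * w⁻¹) * u) * (w * y * w⁻¹)⁻¹ by group,
    ev_mul _ (S.sect.conjH' u hy') (H.inv_mem hy'), ev_inv _ hy', hfix _ hy', mul_inv_cancel]

/-- The stabilisers needed for the degree bound. -/
theorem exists_T [Finite L] (S : Split K H H0 U C W H1 C1 r q a) (χ : DualOn H H0)
    (hne : ∃ y ∈ H, ev χ.1 y ≠ 1) : ∃ T : Subgroup L, H ⊔ C ≤ T ∧ T ≤ K ∧ a ∣ T.relIndex K ∧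
      ∀ u ∈ U, (∀ y ∈ H, ev χ.1 (u⁻¹ * y * u) = ev χ.1 y) → u ∈ T := by
  classical
  obtain ⟨w, hw, y₀, hy₀, hne₀⟩ : ∃ w ∈ W, ∃ y ∈ H1, ev χ.1 (w * y * w⁻¹) ≠ 1 := by
    by_contra hcon
    push Not at hcon
    obtain ⟨y, hy, hy'⟩ := hne
    have e : S.line χ = S.line ⟨1, fun _ _ => rfl⟩ := funext fun w => Subtype.ext (ev_ext fun z hz => by
      rw [S.line_ev _ _ hz, S.line_ev _ _ hz, hcon w w.2 z hz,
        ev_of_mem _ (S.sect.conjH _ (S.le hz))]
      rfl)
    rw [S.line_injective e, ev_of_mem _ hy] at hy'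
    exact hy' rfl
  set P := C1.map (MulAut.conj w).toMonoidHom
  have hmemP : ∀ x, x ∈ P ↔ w⁻¹ * x * w ∈ C1 := fun x => by
    refine ⟨?_, fun h => ⟨_, h, by simp [mul_assoc]⟩⟩
    rintro ⟨c, hc, rfl⟩
    simpa [mul_assoc] using hc
  have hPU : P ≤ U := fun x hx => by
    simpa [mul_assoc] using S.sect.WU w hw _ (S.C1U ((hmemP x).1 hx))
  have hCP : C ≤ P := fun c hc => (hmemP c).2 (S.C_le (by
    simpa using S.sect.C_conjW (W.inv_mem hw) hc))
  refine ⟨H ⊔ P, sup_le_sup_left hCP H, S.sect.sup_le_K hPU, ?_, fun u hu hfix =>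
    Subgroup.mem_sup_right ((hmemP u).2 (S.fix_line χ hw hu hfix hy₀ hne₀))⟩
  rw [S.sect.relIndex_sup hPU]
  have h1 := Subgroup.card_mul_index (P.subgroupOf U)
  rw [Nat.card_congr (Subgroup.subgroupOfEquivOfLe hPU).toEquiv,
    Subgroup.card_map_of_injective (MulAut.conj w).injective] at h1
  have h2 := Subgroup.card_mul_index (C1.subgroupOf U)
  rw [Nat.card_congr (Subgroup.subgroupOfEquivOfLe S.C1U).toEquiv, ← h1] at h2
  exact dvd_of_eq (S.index.symm.trans (Nat.eq_of_mul_eq_mul_left Nat.card_pos h2))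

/-- Supported on the first line only. -/
def OnLine (_S : Split K H H0 U C W H1 C1 r q a) (χ : DualOn H H0) : Prop :=
  (∃ y ∈ H1, ev χ.1 y ≠ 1) ∧ ∀ w ∈ W, w ≠ 1 → ∀ y ∈ H1, ev χ.1 (w * y * w⁻¹) = 1

/-- Nontrivial on every line. -/
def Full (_S : Split K H H0 U C W H1 C1 r q a) (χ : DualOn H H0) : Prop :=
  ∀ w ∈ W, ∃ y ∈ H1, ev χ.1 (w * y * w⁻¹) ≠ 1

theorem exists_ne_of_ne {f : DualOn H1 H0} (hf : f ≠ ⟨1, fun _ _ => rfl⟩) : ∃ y ∈ H1, ev f.1 y ≠ 1 := by
  by_contra hcon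
  push Not at hcon
  exact hf (Subtype.ext (ev_ext fun y hy => by rw [hcon y hy, ev_of_mem _ hy]; rfl))

theorem card_nontriv [Finite L] (S : Split K H H0 U C W H1 C1 r q a) :
    Nat.card {f : DualOn H1 H0 // f ≠ ⟨1, fun _ _ => rfl⟩} = r - 1 := by
  classical
  obtain ⟨hfin, hc⟩ := S.card_dual1
  haveI := Fintype.ofFinite (DualOn H1 H0)
  rw [Nat.card_eq_fintype_card] at hc ⊢
  rw [Fintype.card_subtype_compl, hc, Fintype.card_subtype_eq]

theorem card_onLine [Finite L] (S : Split K H H0 U C W H1 C1 r q a) :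
    r - 1 ≤ Nat.card {χ : DualOn H H0 // S.OnLine χ} := by
  classical
  obtain ⟨hfin, -⟩ := S.sect.dual_card
  rw [← S.card_nontriv]
  have hsurj := S.line_surjective
  let one1 : DualOn H1 H0 := ⟨1, fun _ _ => rfl⟩
  choose pre hpre using fun f : {f : DualOn H1 H0 // f ≠ one1} =>
    hsurj (Function.update (fun _ => one1) (1 : W) f.1)
  refine Nat.card_le_card_of_injective (fun f => ⟨pre f, ?_, ?_⟩) fun f g e => ?_
  · obtain ⟨y, hy, hne⟩ := exists_ne_of_ne f.2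
    refine ⟨y, hy, ?_⟩
    have := S.line_ev (pre f) 1 hy
    rw [hpre, Function.update_self] at this
    simpa [this] using hne
  · intro w hw hw1 y hy
    rw [← S.line_ev (pre f) ⟨w, hw⟩ hy, hpre,
      Function.update_of_ne (fun e => hw1 (congrArg Subtype.val e)), ev_of_mem _ hy]
    rfl
  · have := congrArg S.line (congrArg Subtype.val e)
    simp only [hpre] at this
    have h := congrFun this 1
    rw [Function.update_self, Function.update_self] at h
    exact Subtype.ext h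

theorem card_full [Finite L] (S : Split K H H0 U C W H1 C1 r q a) :
    (r - 1) ^ q ≤ Nat.card {χ : DualOn H H0 // S.Full χ} := by
  classical
  obtain ⟨hfin, -⟩ := S.sect.dual_card
  obtain ⟨hfin1, -⟩ := S.card_dual1
  haveI := Fintype.ofFinite W
  refine le_of_eq_of_le (show (r - 1) ^ q =
    Nat.card (W → {f : DualOn H1 H0 // f ≠ ⟨1, fun _ _ => rfl⟩}) by
      rw [Nat.card_fun, S.card_nontriv, S.sect.Wq]) ?_
  have hsurj := S.line_surjective
  choose pre hpre using fun f : W → {f : DualOn H1 H0 // f ≠ ⟨1, fun _ _ => rfl⟩} =>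
    hsurj fun w => (f w).1
  refine Nat.card_le_card_of_injective (fun f => ⟨pre f, fun w hw => ?_⟩) fun f g e => ?_
  · obtain ⟨y, hy, hne⟩ := exists_ne_of_ne (f ⟨w, hw⟩).2
    refine ⟨y, hy, ?_⟩
    rwa [← S.line_ev (pre f) ⟨w, hw⟩ hy, hpre]
  · have := congrArg S.line (congrArg Subtype.val e)
    simp only [hpre] at this
    exact funext fun w => Subtype.ext (congrFun this w)

theorem onLine_inv (S : Split K H H0 U C W H1 C1 r q a) {χ χ' : DualOn H H0} (hχ : S.OnLine χ)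
    (e : χ'.1 = χ.1⁻¹) : S.OnLine χ' := by
  obtain ⟨⟨y, hy, hne⟩, h2⟩ := hχ
  refine ⟨⟨y, hy, ?_⟩, fun w hw hw1 z hz => ?_⟩
  · rw [e, ev_inv_hom]; exact fun h => hne (inv_eq_one.1 h)
  · rw [e, ev_inv_hom, h2 w hw hw1 z hz, inv_one]

theorem full_inv (S : Split K H H0 U C W H1 C1 r q a) {χ χ' : DualOn H H0} (hχ : S.Full χ)
    (e : χ'.1 = χ.1⁻¹) : S.Full χ' := fun w hw => by
  obtain ⟨y, hy, hne⟩ := hχ w hw
  exact ⟨y, hy, by rw [e, ev_inv_hom]; exact fun h => hne (inv_eq_one.1 h)⟩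

/-- A character on one line is fixed by `C₁`. -/
theorem onLine_fix (S : Split K H H0 U C W H1 C1 r q a) {χ : DualOn H H0} (hχ : S.OnLine χ) {p : L}
    (hp : p ∈ C1) {y : L} (hy : y ∈ H) : ev χ.1 (p * y * p⁻¹) = ev χ.1 y := by
  let P : Subgroup L :=
    { carrier := {z | z ∈ H ∧ ev χ.1 (p * z * p⁻¹) = ev χ.1 z}
      one_mem' := ⟨H.one_mem, by simp⟩
      mul_mem' := fun {x z} hx hz => ⟨H.mul_mem hx.1 hz.1, by
        rw [show p * (x * z) * p⁻¹ = (p * x * p⁻¹) * (p * z * p⁻¹) by group,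
          ev_mul _ (S.sect.conjH p hx.1) (S.sect.conjH p hz.1), hx.2, hz.2, ev_mul _ hx.1 hz.1]⟩
      inv_mem' := fun {x} hx => ⟨H.inv_mem hx.1, by
        rw [show p * x⁻¹ * p⁻¹ = (p * x * p⁻¹)⁻¹ by group, ev_inv _ (S.sect.conjH p hx.1), hx.2,
          ev_inv _ hx.1]⟩ }
  refine (S.span P (fun w hw z hz => ⟨S.sect.conjH w (S.le hz), ?_⟩) hy).2
  by_cases hw1 : w = 1
  · subst hw1
    simp only [one_mul, inv_one, mul_one]
    have h1 := (S.cent1 p (S.C1U hp)).1 hp z hz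
    rw [show p * z * p⁻¹ = (p * z * p⁻¹ * z⁻¹) * z by group, ev_mul _ (S.le (S.le0 h1)) (S.le hz),
      ev_dual χ h1, one_mul]
  · rw [hχ.2 w hw hw1 z hz,
      show p * (w * z * w⁻¹) * p⁻¹ = w * ((w⁻¹ * p * w) * z * (w⁻¹ * p * w)⁻¹) * w⁻¹ by group,
      hχ.2 w hw hw1 _ (S.norm _ (S.sect.WU' hw (S.C1U hp)) z hz)]

/-- Only elements of `K` carry one one-line character to another; the stabiliser is `H C₁`. -/
theorem onLine_moves (S : Split K H H0 U C W H1 C1 r q a) {χ χ' : DualOn H H0} (hχ : S.OnLine χ)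
    (hχ' : S.OnLine χ') {x : L} (hm : ∀ y ∈ H, ev χ'.1 (x⁻¹ * y * x) = ev χ.1 y) :
    x ∈ K ∧ (χ = χ' → x ∈ H ⊔ C1) := by
  obtain ⟨k, hk, w, hw, rfl⟩ := S.sect.top x
  obtain ⟨h, hh, u, hu, rfl⟩ := S.sect.prod k hk
  obtain ⟨y₀, hy₀, hne⟩ := hχ.1
  have key : ∀ y ∈ H, ev χ'.1 (w⁻¹ * (u⁻¹ * y * u) * w) = ev χ.1 y := fun y hy => by
    rw [← hm y hy, show h * u * w = h * (u * w) from mul_assoc _ _ _, S.sect.ev_conj_mul χ' hh _ hy]
    exact congrArg _ (by group)
  have hw1 : w = 1 := by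
    by_contra hw1
    refine hne ?_
    rw [← key y₀ (S.le hy₀)]
    simpa using hχ'.2 w⁻¹ (W.inv_mem hw) (by simpa using hw1) _ (S.norm' hu hy₀)
  subst hw1
  refine ⟨by simpa using hk, ?_⟩
  rintro rfl
  have hu1 : u ∈ C1 := by
    simpa using S.fix_line χ W.one_mem hu (fun y hy => by simpa using key y hy) hy₀ (by simpa using hne)
  simpa using S.sect.mul_mem_sup hh hu1

/-- A character with full support fixed outside `H C` is determined by a coset of `C` and a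
character of one line. -/
theorem card_bad [Finite L] (S : Split K H H0 U C W H1 C1 r q a) :
    Nat.card {χ : DualOn H H0 // S.Full χ ∧
      ∃ x, x ∉ H ⊔ C ∧ ∀ y ∈ H, ev χ.1 (x⁻¹ * y * x) = ev χ.1 y} ≤ (r - 1) * C.relIndex U := by
  classical
  obtain ⟨hfin1, -⟩ := S.card_dual1
  have D := S.sect
  let tw : DualOn H H0 → L → DualOn H H0 := fun χ v =>
    ⟨{ toFun := fun y => ev χ.1 (v * y * v⁻¹)
       map_one' := by simp [ev_one]
       map_mul' := fun y z => by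
         rw [← ev_mul χ.1 (D.conjH _ y.2) (D.conjH _ z.2)]; simp [mul_assoc] },
      fun y hy => ev_dual χ (D.conjH0 _ hy)⟩
  have htw : ∀ χ v y, y ∈ H → ev (tw χ v).1 y = ev χ.1 (v * y * v⁻¹) := fun χ v y hy => by
    rw [ev_of_mem _ hy]; rfl
  have hwit : ∀ χ : {χ : DualOn H H0 // S.Full χ ∧
      ∃ x, x ∉ H ⊔ C ∧ ∀ y ∈ H, ev χ.1 (x⁻¹ * y * x) = ev χ.1 y},
      ∃ (v : U) (f : {f : DualOn H1 H0 // f ≠ ⟨1, fun _ _ => rfl⟩}),
        ∀ w : W, S.line (tw χ.1 v) w = f.1 := by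
    rintro ⟨χ, hfull, x, hxN, hfix⟩
    obtain ⟨k, hk, w, hw, rfl⟩ := D.top x
    obtain ⟨h, hh, u, hu, rfl⟩ := D.prod k hk
    have key : ∀ y ∈ H, ev χ.1 ((u * w)⁻¹ * y * (u * w)) = ev χ.1 y := fun y hy => by
      rw [← D.ev_conj_mul χ hh (u * w) hy, ← mul_assoc h u w, hfix y hy]
    have hw1 : w ≠ 1 := by
      rintro rfl
      refine hxN ?_
      have huC : u ∈ C := by
        refine (S.centEq u hu).2 fun w' hw' => ?_
        obtain ⟨y, hy, hne⟩ := hfull w'⁻¹ (W.inv_mem hw')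
        simpa using S.fix_line χ (W.inv_mem hw') hu (fun z hz => by simpa using key z hz) hy hne
      simpa using D.mul_mem_sup hh huC
    let g : U → U := fun v => ⟨(v : L) * (w * (v : L)⁻¹ * w⁻¹),
      U.mul_mem v.2 (D.WU w hw _ (U.inv_mem v.2))⟩
    have hg : Function.Injective g := by
      intro v v' e
      have e' : (v : L) * (w * (v : L)⁻¹ * w⁻¹) = (v' : L) * (w * (v' : L)⁻¹ * w⁻¹) :=
        congrArg Subtype.val e
      have h2 : w * ((v' : L)⁻¹ * v) = ((v' : L)⁻¹ * v) * w := by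
        have h3 := congrArg (fun z => (v' : L)⁻¹ * z * (w * v)) e'
        simp [mul_assoc] at h3
        simpa [mul_assoc] using h3.symm
      exact Subtype.ext (inv_mul_eq_one.1
        (D.fpf w hw hw1 _ (U.mul_mem (U.inv_mem v'.2) v.2) h2)).symm
    obtain ⟨v, hv⟩ := Finite.surjective_of_injective hg ⟨u, hu⟩
    have huw : u * w = (v : L) * w * (v : L)⁻¹ := by
      have hv' : (v : L) * (w * (v : L)⁻¹ * w⁻¹) = u := congrArg Subtype.val hv
      rw [← hv']; group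
    set ψ := tw χ v with hψdef
    let St : Subgroup L :=
      { carrier := {z | ∀ y ∈ H, ev ψ.1 (z⁻¹ * y * z) = ev ψ.1 y}
        one_mem' := fun y _ => by simp
        mul_mem' := fun {x z} hx hz y hy => by
          rw [show (x * z)⁻¹ * y * (x * z) = z⁻¹ * (x⁻¹ * y * x) * z by group,
            hz _ (D.conjH' x hy), hx y hy]
        inv_mem' := fun {x} hx y hy => by
          have := hx _ (D.conjH x hy)
          rw [show x⁻¹ * (x * y * x⁻¹) * x = y by group] at this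
          simpa using this.symm }
    have hwSt : w ∈ St := fun y hy => by
      rw [hψdef, htw _ _ _ (D.conjH' w hy), htw _ _ _ hy, ← key _ (D.conjH (v : L) hy), huw]
      exact congrArg _ (by group)
    have hW : W ≤ St := by
      have h1 : Subgroup.zpowers w = W := by
        refine Subgroup.eq_of_le_of_card_ge (Subgroup.zpowers_le.2 hw) ?_
        rw [Nat.card_zpowers, D.Wq]
        rcases (Nat.dvd_prime D.qp).1 (D.Wq ▸ Subgroup.orderOf_dvd_natCard W hw) with h | h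
        · exact absurd (orderOf_eq_one_iff.1 h) hw1
        · exact h.ge
      exact h1 ▸ Subgroup.zpowers_le.2 hwSt
    have hconst : ∀ w' : W, S.line ψ w' = S.line ψ 1 := fun w' => Subtype.ext (ev_ext fun y hy => by
      rw [S.line_ev _ _ hy, S.line_ev _ _ hy]
      simpa using hW (W.inv_mem w'.2) y (S.le hy))
    refine ⟨v, ⟨S.line ψ 1, fun e => ?_⟩, hconst⟩
    obtain ⟨y, hy, hne⟩ := hfull 1 W.one_mem
    have hψ1 : ψ = ⟨1, fun _ _ => rfl⟩ := S.line_injective (funext fun w' => by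
      rw [hconst w', e]
      exact Subtype.ext (ev_ext fun z hz => by
        rw [S.line_ev _ _ hz, ev_of_mem _ hz, ev_of_mem _ (D.conjH _ (S.le hz))]; rfl))
    refine hne ?_
    have h2 := htw χ v _ (D.conjH' (v : L) (S.le hy))
    rw [← hψdef, hψ1, ev_of_mem _ (D.conjH' (v : L) (S.le hy))] at h2
    simpa [mul_assoc] using h2.symm
  choose v f hvf using hwit
  have hcard : Nat.card ({f : DualOn H1 H0 // f ≠ ⟨1, fun _ _ => rfl⟩} × (U ⧸ C.subgroupOf U)) =
      (r - 1) * C.relIndex U := by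
    rw [Nat.card_prod, S.card_nontriv]; rfl
  rw [← hcard]
  refine Nat.card_le_card_of_injective (fun χ => (f χ, QuotientGroup.mk (v χ))) fun χ χ' e => ?_
  obtain ⟨ef, ev'⟩ := Prod.ext_iff.1 e
  have hc := Subgroup.mem_subgroupOf.1 (QuotientGroup.eq.1 ev')
  have hline : tw χ.1 (v χ) = tw χ'.1 (v χ') := S.line_injective (funext fun w => by
    rw [hvf χ w, hvf χ' w]; exact congrArg Subtype.val ef)
  refine Subtype.ext (Subtype.ext (ev_ext fun y hy => ?_))
  have h := congrArg (fun ψ : DualOn H H0 => ev ψ.1 ((v χ : L)⁻¹ * y * v χ)) hline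
  simp only [htw _ _ _ (D.conjH' (v χ : L) hy)] at h
  have hC' : (v χ' : L) * ((v χ : L)⁻¹ * v χ') * (v χ' : L)⁻¹ ∈ C :=
    D.conjP le_rfl D.CU (v χ').2 hc
  rw [show (v χ' : L) * ((v χ : L)⁻¹ * y * v χ) * (v χ' : L)⁻¹ =
      ((v χ : L) * (v χ' : L)⁻¹)⁻¹ * y * ((v χ : L) * (v χ' : L)⁻¹) by group] at h
  rw [D.C_fix χ'.1 (by simpa [mul_assoc] using C.inv_mem hC') hy] at h
  simpa [mul_assoc] using h

/-- `H C₁` has small overlap with its conjugates outside `K`. -/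
theorem norm_bound [Fintype L] (S : Split K H H0 U C W H1 C1 r q a) (hu : a < C.relIndex U)
    [Fintype ↥(H ⊔ C1)] {n : ℕ}
    (hn : Cfsg.classInner (indLin (H ⊔ C1) 1) (indLin (H ⊔ C1) 1) = (n : ℂ)) :
    3 * n ≤ (q + 2) * a := by
  classical
  have D := S.sect
  set N := H ⊔ C1
  have hNK : N ≤ K := D.sup_le_K S.C1U
  have hc1 : C.relIndex C1 ≠ 1 := fun h => by
    have := S.u_eq
    rw [h, one_mul] at this
    omega
  have hout : ∀ x : L, x ∉ K → 3 * Nat.card {m : N // x⁻¹ * (m : L) * x ∈ N} ≤ Nat.card N := by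
    intro x hx
    set Q := (N.comap (MulAut.conj x⁻¹).toMonoidHom).subgroupOf N
    have hQ : ∀ m : N, m ∈ Q ↔ x⁻¹ * (m : L) * x ∈ N := fun m => by
      simp [Q, Subgroup.mem_subgroupOf]
    rw [Nat.card_congr (Equiv.subtypeEquivRight fun m => (hQ m).symm), ← Q.card_mul_index, mul_comm 3]
    refine Nat.mul_le_mul_left _ ?_
    have hodd : Odd Q.index :=
      D.odd.of_dvd_nat ((Subgroup.index_dvd_card Q).trans (Subgroup.card_subgroup_dvd_card N))
    have hne : Q.index ≠ 1 := by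
      intro h1
      rw [Subgroup.index_eq_one] at h1
      obtain ⟨k, hk, w, hw, rfl⟩ := D.top x
      have hw1 : w ≠ 1 := by
        rintro rfl; exact hx (by simpa using hk)
      have hstep : ∀ c ∈ C1, w⁻¹ * c * w ∈ C1 := by
        intro c hc
        refine D.sup_inf_U S.C1U ?_ (D.WU' hw (S.C1U hc))
        have h2 : k * c * k⁻¹ ∈ N := D.K_conj S.C_le S.C1U hk (Subgroup.mem_sup_right hc)
        have h3 := (hQ ⟨_, h2⟩).1 (h1 ▸ Subgroup.mem_top _)
        simpa [mul_assoc] using h3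
      have hpow : ∀ m : ℕ, ∀ c ∈ C1, (w ^ m)⁻¹ * c * w ^ m ∈ C1 := by
        intro m
        induction m with
        | zero => intro c hc; simpa using hc
        | succ m ih =>
          intro c hc
          simpa [pow_succ, mul_assoc] using hstep _ (ih c hc)
      refine hc1 (Subgroup.relIndex_eq_one.2 fun c hc => (S.centEq c (S.C1U hc)).2 fun w' hw' => ?_)
      have hz : Subgroup.zpowers w = W := by
        refine Subgroup.eq_of_le_of_card_ge (Subgroup.zpowers_le.2 hw) ?_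
        rw [Nat.card_zpowers, D.Wq]
        rcases (Nat.dvd_prime D.qp).1 (D.Wq ▸ Subgroup.orderOf_dvd_natCard W hw) with h | h
        · exact absurd (orderOf_eq_one_iff.1 h) hw1
        · exact h.ge
      obtain ⟨m, hm⟩ := Subgroup.mem_zpowers_iff.1 (hz.symm ▸ W.inv_mem hw')
      obtain ⟨i, hi⟩ : ∃ i : ℕ, w ^ i = w'⁻¹ := by
        have h4 : w'⁻¹ ∈ Submonoid.powers w :=
          (isOfFinOrder_of_finite w).mem_powers_iff_mem_zpowers.2 ⟨m, hm⟩
        exact h4
      simpa [hi] using hpow i c hc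
    obtain ⟨j, hj⟩ := hodd
    omega
  have h := norm_indOne_le N K hn hNK hout
  have hKN : Nat.card K = Nat.card N * a := by
    have h1 := Subgroup.card_mul_index (N.subgroupOf K)
    rw [Nat.card_congr (Subgroup.subgroupOfEquivOfLe hNK).toEquiv] at h1
    rw [← h1]
    show _ * N.relIndex K = _
    rw [D.relIndex_sup S.C1U, S.index]
  rw [D.card_L, hKN] at h
  have hq := D.qp.two_le
  refine Nat.le_of_mul_le_mul_right (c := Nat.card N) ?_ Nat.card_pos
  calc 3 * n * Nat.card N ≤ _ := h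
    _ = (q + 2) * a * Nat.card N := by
      zify [show Nat.card N * a ≤ q * (Nat.card N * a) from Nat.le_mul_of_pos_left _ (by omega)]
      ring

/-- `n` is less than the size of the family of degree `q u`. -/
theorem arith {r q a u n t : ℕ} (hq : 3 ≤ q) (ha : 2 * a ≤ r - 1) (ha0 : 0 < a) (hu0 : 0 < u)
    (hu : u ≤ a ^ (q - 1)) (hn : 3 * n ≤ (q + 2) * a)
    (ht : (r - 1) ^ q ≤ t * (q * u) + (r - 1) * u) : n < t := by
  by_contra hcon
  push Not at hcon
  have h2 : ∀ m, 2 ≤ m → (m + 1) * (m + 3) + 6 < 6 * 2 ^ m := by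
    intro m hm
    induction m, hm using Nat.le_induction with
    | base => norm_num
    | succ m hm ih => rw [pow_succ]; nlinarith
  have h3 := h2 (q - 1) (by omega)
  rw [show q - 1 + 1 = q by omega, show q - 1 + 3 = q + 2 by omega] at h3
  set R := r - 1
  have h4 : 2 ^ (q - 1) * u ≤ R ^ (q - 1) :=
    (Nat.mul_le_mul_left _ hu).trans (by rw [← mul_pow]; exact Nat.pow_le_pow_left ha _)
  have h5 : R * (2 ^ (q - 1) * u) ≤ R ^ q := by
    calc R * (2 ^ (q - 1) * u) ≤ R * R ^ (q - 1) := Nat.mul_le_mul_left _ h4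
      _ = R ^ q := by rw [← pow_succ', show q - 1 + 1 = q by omega]
  have h6 : t * (q * u) ≤ n * (q * u) := Nat.mul_le_mul_right _ hcon
  have h7 : 3 * n * (q * u) ≤ (q + 2) * a * (q * u) := Nat.mul_le_mul_right _ hn
  have h8 : (q + 2) * (2 * a) * (q * u) ≤ (q + 2) * R * (q * u) :=
    Nat.mul_le_mul_right _ (Nat.mul_le_mul_left _ ha)
  have h9 : ((q + 2) * q + 6) * (R * u) < 6 * 2 ^ (q - 1) * (R * u) := by
    refine Nat.mul_lt_mul_of_pos_right ?_ (Nat.mul_pos (by omega) hu0)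
    linarith
  nlinarith

/-- The two families and the norm of `Ind 1`. -/
theorem families [Fintype L] (S : Split K H H0 U C W H1 C1 r q a) (hu : a < C.relIndex U) :
    ∃ (S1 T : Finset (L → ℂ)) (n : ℕ), GoodSet K H H0 C (H ⊔ C1) (q * a) S1 ∧
      GoodSet K H H0 C (H ⊔ C1) (q * C.relIndex U) T ∧ 2 * C.relIndex C1 ≤ S1.card ∧
      n < T.card ∧ Cfsg.classInner (indLin (H ⊔ C1) 1) (indLin (H ⊔ C1) 1) = (n : ℂ) ∧
      1 < C.relIndex C1 := by
  classical
  have D := S.sect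
  haveI := D.Hn
  obtain ⟨hfinH, -⟩ := D.dual_card
  have hCC : (C.subgroupOf C1).Normal := ⟨fun c hc x => Subgroup.mem_subgroupOf.2
    (D.conjP le_rfl D.CU (S.C1U x.2) (Subgroup.mem_subgroupOf.1 hc))⟩
  obtain ⟨hfinC, hcardC⟩ := card_dualOn C1 C hCC fun x hx y hy =>
    D.derU x (S.C1U hx) y (S.C1U hy)
  haveI := Fintype.ofFinite {χ : DualOn H H0 // S.OnLine χ}
  haveI := Fintype.ofFinite (DualOn C1 C)
  -- the family of degree `q a`
  choose lam hlamH hlamP using fun i : {χ : DualOn H H0 // S.OnLine χ} × DualOn C1 C =>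
    D.exists_ext S.C1U i.1.1.1 i.2.1 fun p hp y hy => S.onLine_fix i.1.2 hp hy
  haveI := Fintype.ofFinite ↥(H ⊔ C1)
  have hmoves : ∀ i j x, Moves (H ⊔ C1) H le_sup_left (lam i) (lam j) x →
      x ∈ K ∧ (i.1 = j.1 → x ∈ H ⊔ C1) := by
    intro i j x hm
    have h := S.onLine_moves i.1.2 j.1.2 (x := x) fun y hy => by
      rw [← hlamH j _ (D.conjH' x hy), ← hlamH i y hy, ev_of_mem _ (Subgroup.mem_sup_left (D.conjH' x hy)),
        ev_of_mem _ (Subgroup.mem_sup_left hy)]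
      exact hm y hy
    exact ⟨h.1, fun e => h.2 (congrArg Subtype.val e)⟩
  have hinj : Function.Injective lam := by
    intro i j e
    refine Prod.ext (Subtype.ext (Subtype.ext (ev_ext fun y hy => ?_))) (Subtype.ext (ev_ext fun p hp => ?_))
    · rw [← hlamH i y hy, ← hlamH j y hy, e]
    · rw [← hlamP i p hp, ← hlamP j p hp, e]
  have hirr : ∀ i, Cfsg.IsIrrCharacter L (indLin (H ⊔ C1) (lam i)) := fun i =>
    irr_indLin _ H le_sup_left fun x hm => (hmoves i i x hm).2 rfl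
  set S1 := Finset.univ.image fun i => indLin (H ⊔ C1) (lam i) with hS1
  have hS1good : GoodSet K H H0 C (H ⊔ C1) (q * a) S1 := by
    intro φ hφ
    obtain ⟨i, -, rfl⟩ := Finset.mem_image.1 hφ
    refine ⟨hirr i, ?_, ?_, ?_, fun g hg => indLin_support _ _ hg⟩
    · rw [indLin_one, D.index_sup S.C1U, S.index]
    · refine D.indLin_mem S.C_le S.C1U _ (fun y hy => ?_) ?_ fun x _ hm => (hmoves i i x hm).2 rfl
      · rw [hlamH i y (D.H0H hy)]; exact ev_dual i.1.1 hy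
      · obtain ⟨y, hy, hne⟩ := i.1.2.1
        exact ⟨y, S.le hy, by rwa [hlamH i y (S.le hy)]⟩
    · let j : {χ : DualOn H H0 // S.OnLine χ} × DualOn C1 C :=
        (⟨⟨i.1.1.1⁻¹, fun y hy => by rw [MonoidHom.inv_apply, i.1.1.2 y hy, inv_one]⟩,
          S.onLine_inv i.1.2 rfl⟩,
         ⟨i.2.1⁻¹, fun y hy => by rw [MonoidHom.inv_apply, i.2.2 y hy, inv_one]⟩)
      have hj : lam j = (lam i)⁻¹ := by
        refine ev_ext fun x hx => ?_
        obtain ⟨h, hh, p, hp, rfl⟩ := D.mem_sup.1 hx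
        rw [ev_inv_hom, ev_mul _ (Subgroup.mem_sup_left hh) (Subgroup.mem_sup_right hp),
          ev_mul _ (Subgroup.mem_sup_left hh) (Subgroup.mem_sup_right hp), hlamH j h hh, hlamP j p hp,
          hlamH i h hh, hlamP i p hp, ev_inv_hom, ev_inv_hom, mul_inv]
      refine Finset.mem_image.2 ⟨j, Finset.mem_univ _, ?_⟩
      rw [hj, ← indLin_conj]; rfl
  have hcount1 := card_le_image_mul (H ⊔ C1) K H le_sup_left lam hinj
    (fun x hx n hn => D.K_conj' S.C_le S.C1U hx hn) hirr fun i j x hm => (hmoves i j x hm).1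
  rw [Nat.card_prod, hcardC, D.relIndex_sup S.C1U, S.index, ← hS1] at hcount1
  have hS1card : 2 * C.relIndex C1 ≤ S1.card := by
    refine Nat.le_of_mul_le_mul_right (c := a) ?_ (by have := S.one_lt; omega)
    calc 2 * C.relIndex C1 * a = (2 * a) * C.relIndex C1 := by ring
      _ ≤ (r - 1) * C.relIndex C1 := Nat.mul_le_mul_right _ S.two_a_le
      _ ≤ Nat.card {χ : DualOn H H0 // S.OnLine χ} * C.relIndex C1 :=
        Nat.mul_le_mul_right _ S.card_onLine
      _ ≤ S1.card * a := hcount1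
  -- the family of degree `q u`
  let Bad : DualOn H H0 → Prop := fun χ =>
    ∃ x, x ∉ H ⊔ C ∧ ∀ y ∈ H, ev χ.1 (x⁻¹ * y * x) = ev χ.1 y
  haveI := Fintype.ofFinite {χ : DualOn H H0 // S.Full χ ∧ ¬ Bad χ}
  haveI := Fintype.ofFinite ↥(H ⊔ C)
  choose lam2 hlam2H hlam2C using fun i : {χ : DualOn H H0 // S.Full χ ∧ ¬ Bad χ} =>
    D.exists_ext D.CU i.1.1 (1 : C →* ℂˣ) fun c hc z hz => by
      simpa using D.C_fix i.1 (C.inv_mem hc) hz
  have hstab2 : ∀ i x, Moves (H ⊔ C) H le_sup_left (lam2 i) (lam2 i) x → x ∈ H ⊔ C := by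
    intro i x hm
    by_contra hx
    refine i.2.2 ⟨x, hx, fun y hy => ?_⟩
    rw [← hlam2H i _ (D.conjH' x hy), ← hlam2H i y hy,
      ev_of_mem _ (Subgroup.mem_sup_left (D.conjH' x hy)), ev_of_mem _ (Subgroup.mem_sup_left hy)]
    exact hm y hy
  have hinj2 : Function.Injective lam2 := fun i j e =>
    Subtype.ext (Subtype.ext (ev_ext fun y hy => by rw [← hlam2H i y hy, ← hlam2H j y hy, e]))
  have hirr2 : ∀ i, Cfsg.IsIrrCharacter L (indLin (H ⊔ C) (lam2 i)) := fun i =>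
    irr_indLin _ H le_sup_left (hstab2 i)
  set T := Finset.univ.image fun i => indLin (H ⊔ C) (lam2 i) with hT
  have hTgood : GoodSet K H H0 C (H ⊔ C1) (q * C.relIndex U) T := by
    intro φ hφ
    obtain ⟨i, -, rfl⟩ := Finset.mem_image.1 hφ
    refine ⟨hirr2 i, by rw [indLin_one, D.index_sup D.CU], ?_, ?_,
      fun g hg => indLin_support _ _ fun x hx => hg x (sup_le_sup_left S.C_le H hx)⟩
    · refine D.indLin_mem le_rfl D.CU _ (fun y hy => ?_) ?_ fun x _ hm => hstab2 i x hm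
      · rw [hlam2H i y (D.H0H hy)]; exact ev_dual i.1 hy
      · obtain ⟨y, hy, hne⟩ := i.2.1 1 W.one_mem
        exact ⟨_, D.conjH 1 (S.le hy), by rwa [hlam2H i _ (D.conjH 1 (S.le hy))]⟩
    · let j : {χ : DualOn H H0 // S.Full χ ∧ ¬ Bad χ} :=
        ⟨⟨i.1.1⁻¹, fun y hy => by rw [MonoidHom.inv_apply, i.1.2 y hy, inv_one]⟩,
          S.full_inv i.2.1 rfl, fun ⟨x, hx, hfix⟩ => i.2.2 ⟨x, hx, fun y hy => by
            have := hfix y hy; rwa [ev_inv_hom, ev_inv_hom, inv_inj] at this⟩⟩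
      have hj : lam2 j = (lam2 i)⁻¹ := by
        refine ev_ext fun x hx => ?_
        obtain ⟨h, hh, p, hp, rfl⟩ := D.mem_sup.1 hx
        rw [ev_inv_hom, ev_mul _ (Subgroup.mem_sup_left hh) (Subgroup.mem_sup_right hp),
          ev_mul _ (Subgroup.mem_sup_left hh) (Subgroup.mem_sup_right hp), hlam2H j h hh,
          hlam2C j p hp, hlam2H i h hh, hlam2C i p hp, ev_inv_hom, mul_inv,
          show ev (1 : C →* ℂˣ) p = 1 by rw [ev_of_mem _ hp]; rfl, inv_one]
      refine Finset.mem_image.2 ⟨j, Finset.mem_univ _, ?_⟩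
      rw [hj, ← indLin_conj]; rfl
  have hcount2 := card_le_image_mul (H ⊔ C) ⊤ H le_sup_left lam2 hinj2
    (fun x _ n hn => by
      haveI := D.N_normal
      simpa using D.N_normal.conj_mem n hn x⁻¹)
    hirr2 fun i j x _ => Subgroup.mem_top x
  rw [Subgroup.relIndex_top_right, D.index_sup D.CU, ← hT] at hcount2
  have hsplit : (r - 1) ^ q ≤ T.card * (q * C.relIndex U) + (r - 1) * C.relIndex U := by
    refine S.card_full.trans (le_trans ?_ (Nat.add_le_add hcount2 S.card_bad))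
    refine le_trans (Set.ncard_le_ncard ?_ (Set.toFinite _))
      (Set.ncard_union_le {χ | S.Full χ ∧ ¬ Bad χ} {χ | S.Full χ ∧ Bad χ})
    intro χ (hχ : S.Full χ)
    by_cases hb : Bad χ
    · exact Or.inr ⟨hχ, hb⟩
    · exact Or.inl ⟨hχ, hb⟩
  obtain ⟨n, hn⟩ := classInner_char_nat (indLin_isCharacter (H ⊔ C1) 1) (indLin_isCharacter (H ⊔ C1) 1)
  have hupos : 0 < C.relIndex U := by omega
  refine ⟨S1, T, n, hS1good, hTgood, hS1card, ?_, hn, ?_⟩
  · exact arith S.q_three S.two_a_le (by have := S.one_lt; omega) hupos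
      (Nat.le_of_dvd (pow_pos (by have := S.one_lt; omega) _) S.uBound) (S.norm_bound hu hn) hsplit
  · by_contra h
    have h1 := S.u_eq
    have h2 : C.relIndex C1 * a ≤ 1 * a := Nat.mul_le_mul_right a (not_lt.1 h)
    omega

end Split

end Cfsg.Agent.OddChar.TypeP.CoreCoherence
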